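import Cfsg.Agent.ThreeFullWreath.Cert
import Mathlib.Tactic.FieldSimp
import Mathlib.Tactic.Linarith

/-!
# Solutions of the two systems
-/

set_option autoImplicit false
set_option maxHeartbeats 1000000

namespace Cfsg.Agent.ThreeFullWreath

variable {p q a c A B C L M N : ℚ}

/-- The system of the configuration of the group of order `648`. -/
theorem std_case (hA : A ≠ 0) (hB : B ≠ 0) (hC : C ≠ 0) (hd3 : -1 - A - B ≠ 0)
    (hd8 : B - A - 2 * C - 1 ≠ 0) (hd9 : A + C ≠ 0) (hd7 : C - B ≠ 0) (ha : a ≠ 0) (hc : c ≠ 0)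
    (hL : L ≠ 0) (hM : M ≠ 0) (hN : N * N = L * M)
    (f3 : a * a / A - a * a / (A + C) = 3 * L) (f4 : c * c / B + c * c / (C - B) = 3 * M)
    (g0 : p * p + a * a / A + (p + a) * (p + a) / (-1 - A - B) = 3 * L)
    (g1 : p * q + (p + a) * (q + c) / (-1 - A - B) = 3 * N)
    (g2 : q * q + c * c / B + (q + c) * (q + c) / (-1 - A - B) = 6 * M)
    (g3 : p * p + a * a / (A + C) + (p + a) * (p + a) / (B - A - 2 * C - 1) = 3 / 2 * L)
    (g4 : p * q + (p + a) * (q - c) / (B - A - 2 * C - 1) = 3 / 2 * N)
    (g5 : q * q + c * c / (C - B) + (q - c) * (q - c) / (B - A - 2 * C - 1) = 9 / 2 * M) :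
    p ≠ 0 ∧ (B = 3 ∨ 3 * B = -1) := by
  have r0 : a * a * C - 3 * L * A * (A + C) = 0 := by
    field_simp at f3; linear_combination f3
  have r1 : c * c * C - 3 * M * B * (C - B) = 0 := by
    field_simp at f4; linear_combination f4
  have r2 : (p * p - 3 * L) * A * (-1 - A - B) + a * a * (-1 - A - B) + (p + a) * (p + a) * A = 0 := by
    field_simp at g0; linear_combination g0
  have r3 : (2 * p * p - 3 * L) * (A + C) * (B - A - 2 * C - 1) +
      2 * (a * a * (B - A - 2 * C - 1) + (p + a) * (p + a) * (A + C)) = 0 := by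
    obtain ⟨D, hD⟩ : ∃ D : ℚ, B - A - 2 * C - 1 = D := ⟨_, rfl⟩
    rw [hD] at g3 hd8 ⊢
    field_simp at g3; linear_combination g3
  have r4 : (p * q - 3 * N) * (-1 - A - B) + (p + a) * (q + c) = 0 := by
    field_simp at g1; linear_combination g1
  have r5 : (2 * p * q - 3 * N) * (B - A - 2 * C - 1) + 2 * (p + a) * (q - c) = 0 := by
    field_simp at g4; linear_combination g4
  have r6 : (q * q - 6 * M) * B * (-1 - A - B) + c * c * (-1 - A - B) + (q + c) * (q + c) * B = 0 := by
    field_simp at g2; linear_combination g2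
  have r7 : (2 * q * q - 9 * M) * (C - B) * (B - A - 2 * C - 1) +
      2 * (c * c * (B - A - 2 * C - 1) + (q - c) * (q - c) * (C - B)) = 0 := by
    obtain ⟨D, hD⟩ : ∃ D : ℚ, B - A - 2 * C - 1 = D := ⟨_, rfl⟩
    rw [hD] at g5 hd8 ⊢
    field_simp at g5; linear_combination g5
  clear f3 f4 g0 g1 g2 g3 g4 g5
  by_cases hp : p = 0
  · subst hp
    exfalso
    by_cases hq : q = 0
    · subst hq
      refine std_zero_zero (A := A) (B := B) (C := C) (L := L / a ^ 2) (M := M / c ^ 2)
        (N := N / (a * c)) ?_ ?_ ?_ ?_ ?_ ?_ ?_ ?_ ?_ hA (by simp [hL, ha]) hd3 <;> field_simp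
      exacts [by linear_combination r0, by linear_combination r1, by linear_combination r2,
        by linear_combination r3, by linear_combination r4, by linear_combination r5,
        by linear_combination r6, by linear_combination r7, by linear_combination hN]
    · refine std_zero_one (A := A) (B := B) (C := C) (c := c / q) (L := L / a ^ 2) (M := M / q ^ 2)
        (N := N / (a * q)) ?_ ?_ ?_ ?_ ?_ ?_ ?_ ?_ ?_ hA hB (by simp [hL, ha]) hd9 <;> field_simp
      exacts [by linear_combination r0, by linear_combination r1, by linear_combination r2,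
        by linear_combination r3, by linear_combination r4, by linear_combination r5,
        by linear_combination r6, by linear_combination r7, by linear_combination hN]
  refine ⟨hp, ?_⟩
  by_cases hq : q = 0
  · subst hq
    exfalso
    refine std_one_zero (A := A) (B := B) (C := C) (a := a / p) (L := L / p ^ 2) (M := M / c ^ 2)
      (N := N / (p * c)) ?_ ?_ ?_ ?_ ?_ ?_ ?_ ?_ ?_ hA (by simp [hL, hp]) (by simp [hM, hc]) hd3 <;>
      field_simp
    exacts [by linear_combination r0, by linear_combination r1, by linear_combination r2,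
      by linear_combination r3, by linear_combination r4, by linear_combination r5,
      by linear_combination r6, by linear_combination r7, by linear_combination hN]
  have main : ∀ a' c' L' M' N' : ℚ, a' ≠ 0 → c' ≠ 0 → a = p * a' → c = q * c' → L = p * p * L' →
      M = q * q * M' → N = p * q * N' → c' = -1 ∧ A = a' := by
    intro a' c' L' M' N' na nc ea ec eL eM eN
    subst ea ec eL eM eN
    have hpp : p * p ≠ 0 := mul_ne_zero hp hp
    have hqq : q * q ≠ 0 := mul_ne_zero hq hq
    refine std_solve ?_ ?_ ?_ ?_ ?_ na nc hB hC hd8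
    · refine (mul_eq_zero.1 (show (p * p * A) * _ = 0 from ?_)).resolve_left (mul_ne_zero hpp hA)
      linear_combination (A + C) * r2 - (-1 - A - B) * r0
    · refine (mul_eq_zero.1 (show (p * p) * _ = 0 from ?_)).resolve_left hpp
      linear_combination A * r3 - (B - A - 2 * C - 1) * r0
    · refine (mul_eq_zero.1 (show (q * q) * _ = 0 from ?_)).resolve_left hqq
      linear_combination (C - B) * r6 - 2 * (-1 - A - B) * r1
    · refine (mul_eq_zero.1 (show (q * q) * _ = 0 from ?_)).resolve_left hqq
      linear_combination B * r7 - 3 * (B - A - 2 * C - 1) * r1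
    · refine (mul_eq_zero.1 (show (p * q) * _ = 0 from ?_)).resolve_left (mul_ne_zero hp hq)
      linear_combination (B - A - 2 * C - 1) * r4 - (-1 - A - B) * r5
  obtain ⟨ec, ea⟩ := main (a / p) (c / q) (L / (p * p)) (M / (q * q)) (N / (p * q))
    (div_ne_zero ha hp) (div_ne_zero hc hq) (by field_simp) (by field_simp) (by field_simp)
    (by field_simp) (by field_simp)
  have ea' : a = p * A := by rw [ea]; field_simp
  have ec' : c = -q := by field_simp at ec; linarith
  subst ea' ec'
  -- the remaining equations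
  have s1 : (B - 1) * (C - B) = 2 * B := by
    refine mul_left_cancel₀ (mul_ne_zero (mul_ne_zero hq hq) hd3) ?_
    linear_combination (C - B) * r6 - 2 * (-1 - A - B) * r1
  have s4 : B - A - 2 * C - 1 = -4 * (A + 1) := by
    refine mul_left_cancel₀ (mul_ne_zero (mul_ne_zero hp hq) hd3) ?_
    linear_combination -(B - A - 2 * C - 1) * r4 + (-1 - A - B) * r5
  have s3 : (B - A - 2 * C - 1) * (3 * B - (C - B)) = -8 * ((C - B) + 2 * B) := by
    refine mul_left_cancel₀ (mul_ne_zero hq hq) ?_
    linear_combination B * r7 - 3 * (B - A - 2 * C - 1) * r1 -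
      (q * q * (2 * (B - A - 2 * C - 1) + 8)) * s1
  have hA' : A + 1 = (2 * (C - B) + B) / 3 := by linarith
  rw [s4, hA'] at s3
  set t : ℚ := C - B with ht
  have key : (B - 3) * (3 * B + 1) * (B * B) = 0 := by
    linear_combination (-3 / 4 : ℚ) * (B - 1) ^ 2 * s3 -
      (-2 * ((B - 1) * t + 2 * B) + (B - 1) * (5 * B - 6)) * s1
  rcases mul_eq_zero.1 key with e | e
  · rcases mul_eq_zero.1 e with e | e
    · exact Or.inl (by linarith)
    · exact Or.inr (by linarith)
  · exact absurd e (mul_ne_zero hB hB)

/-- The second system. -/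
theorem alt_case (hA : A ≠ 0) (hB : B ≠ 0) (hd3 : -1 - A - B ≠ 0) (hd4 : -2 - 2 * A - B ≠ 0)
    (hd9 : -1 - A - B + C ≠ 0) (hd7 : C - A ≠ 0) (ha : a ≠ 0) (hc : c ≠ 0)
    (hL : L ≠ 0) (hM : M ≠ 0) (hN : N * N = L * M)
    (f3 : a * a / (-1 - A - B) - a * a / (-1 - A - B + C) = 3 * L)
    (f4 : c * c / A + c * c / (C - A) = 3 * M)
    (g0 : p * p + a * a / (-1 - A - B) + (p + a) * (p + a) / B = 3 * L)
    (g1 : p * q + (p + a) * (q + c) / B = 3 * N)
    (g2 : q * q + c * c / A + (q + c) * (q + c) / B = 6 * M)
    (g3 : p * p - a * a / (-1 - A - B) + (p - a) * (p - a) / (-2 - 2 * A - B) = 3 / 2 * L)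
    (g4 : p * q + (p - a) * (q + c) / (-2 - 2 * A - B) = 3 / 2 * N)
    (g5 : q * q + c * c / A + (q + c) * (q + c) / (-2 - 2 * A - B) = 9 / 2 * M) :
    C - A = 1 := by
  have r0 : (p * q - 3 * N) * B + (a + p) * (c + q) = 0 := by
    field_simp at g1; linear_combination g1
  have r1 : (2 * p * q - 3 * N) * (-2 - 2 * A - B) + 2 * (p - a) * (c + q) = 0 := by
    obtain ⟨D, hD⟩ : ∃ D : ℚ, -2 - 2 * A - B = D := ⟨_, rfl⟩
    rw [hD] at g4 hd4 ⊢
    field_simp at g4; linear_combination g4
  have r2 : (q * q - 6 * M) * A * B + c * c * B + (c + q) * (c + q) * A = 0 := by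
    field_simp at g2; linear_combination g2
  have r3 : (2 * q * q - 9 * M) * A * (-2 - 2 * A - B) +
      2 * (c * c * (-2 - 2 * A - B) + (c + q) * (c + q) * A) = 0 := by
    obtain ⟨D, hD⟩ : ∃ D : ℚ, -2 - 2 * A - B = D := ⟨_, rfl⟩
    rw [hD] at g5 hd4 ⊢
    field_simp at g5; linear_combination g5
  have r4 : (p * p - 3 * L) * B * (-1 - A - B) + (a + p) * (a + p) * (-1 - A - B) + a * a * B = 0 := by
    field_simp at g0; linear_combination g0
  have r5 : (2 * p * p - 3 * L) * (-2 - 2 * A - B) * (-1 - A - B) +
      2 * ((p - a) * (p - a) * (-1 - A - B) - a * a * (-2 - 2 * A - B)) = 0 := by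
    obtain ⟨D, hD⟩ : ∃ D : ℚ, -2 - 2 * A - B = D := ⟨_, rfl⟩
    rw [hD] at g3 hd4 ⊢
    field_simp at g3; linear_combination g3
  have r7 : a * a * C - 3 * L * (-1 - A - B) * (-1 - A - B + C) = 0 := by
    field_simp at f3; linear_combination f3
  have r8 : c * c * C - 3 * M * A * (C - A) = 0 := by
    field_simp at f4; linear_combination f4
  clear f3 f4 g0 g1 g2 g3 g4 g5
  by_cases hp : p = 0
  · subst hp
    by_cases hq : q = 0
    · subst hq
      exfalso
      refine alt_zero_zero (A := A) (B := B) (C := C) (L := L / a ^ 2) (M := M / c ^ 2)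
        (N := N / (a * c)) ?_ ?_ ?_ ?_ ?_ ?_ ?_ ?_ ?_ hA hB (by simp [hM, hc]) <;> field_simp
      exacts [by linear_combination r0, by linear_combination r1, by linear_combination r2,
        by linear_combination r3, by linear_combination r4, by linear_combination r5,
        by linear_combination hN, by linear_combination r7, by linear_combination r8]
    · refine alt_zero_one (A := A) (B := B) (C := C) (c := c / q) (L := L / a ^ 2) (M := M / q ^ 2)
        (N := N / (a * q)) ?_ ?_ ?_ ?_ ?_ ?_ ?_ ?_ ?_ hB (by simp [hL, ha]) hd3 <;> field_simp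
      exacts [by linear_combination r0, by linear_combination r1, by linear_combination r2,
        by linear_combination r3, by linear_combination r4, by linear_combination r5,
        by linear_combination hN, by linear_combination r7, by linear_combination r8]
  exfalso
  by_cases hq : q = 0
  · subst hq
    refine alt_one_zero (A := A) (B := B) (C := C) (a := a / p) (L := L / p ^ 2) (M := M / c ^ 2)
      (N := N / (p * c)) ?_ ?_ ?_ ?_ ?_ ?_ ?_ ?_ ?_ hA (by simp [hM, hc]) <;> field_simp
    exacts [by linear_combination r0, by linear_combination r1, by linear_combination r2,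
      by linear_combination r3, by linear_combination r4, by linear_combination r5,
      by linear_combination hN, by linear_combination r7, by linear_combination r8]
  · refine alt_one_one (A := A) (B := B) (a := a / p) (c := c / q) (L := L / p ^ 2) (M := M / q ^ 2)
      (N := N / (p * q)) ?_ ?_ ?_ ?_ ?_ ?_ ?_ hA (by simp [hM, hq]) hd3 <;> field_simp
    exacts [by linear_combination r0, by linear_combination r1, by linear_combination r2,
      by linear_combination r3, by linear_combination r4, by linear_combination r5,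
      by linear_combination hN]

end Cfsg.Agent.ThreeFullWreath
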