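import Cfsg.Agent.ThreeFullWreath.Shape
import Cfsg.Agent.ThreeFullWreath.Solve

/-!
# The possible configurations of supports
-/

set_option autoImplicit false
set_option maxHeartbeats 1000000

namespace Cfsg.Agent.ThreeFullWreath

universe u

variable {ι : Type u} [Fintype ι] {o : ι} {c : Fin 5 → ι → ℤ} {d U V : ι → ℚ} {L M N : ℚ}

theorem two_sum (f : ι → ℤ) (hf : ∑ x, f x * f x = 2) {a b : ι} (hab : a ≠ b) (ha : f a ≠ 0)
    (hb : f b ≠ 0) (g : ι → ℚ) :
    (f a * f a = 1 ∧ f b * f b = 1) ∧ ∑ x, (f x : ℚ) * g x = (f a : ℚ) * g a + (f b : ℚ) * g b := by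
  classical
  have h1 := Finset.sum_le_univ_sum_of_nonneg (f := fun x => f x * f x)
    (fun x => mul_self_nonneg (f x)) (s := ({a, b} : Finset ι))
  rw [Finset.sum_pair hab, hf] at h1
  have p1 : 0 < f a * f a := mul_self_pos.2 ha
  have p2 : 0 < f b * f b := mul_self_pos.2 hb
  refine ⟨⟨by omega, by omega⟩, ?_⟩
  rw [← Finset.sum_subset (Finset.subset_univ ({a, b} : Finset ι)), Finset.sum_pair hab]
  intro x _ hx
  simp only [Finset.mem_insert, Finset.mem_singleton, not_or] at hx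
  have h2 := Finset.sum_le_univ_sum_of_nonneg (f := fun y => f y * f y)
    (fun y => mul_self_nonneg (f y)) (s := ({x, a, b} : Finset ι))
  rw [Finset.sum_insert (by simp [hx.1, hx.2]), Finset.sum_pair hab, hf] at h2
  have : f x * f x = 0 := le_antisymm (by omega) (mul_self_nonneg _)
  simp [mul_self_eq_zero.1 this]

theorem y_cases {a b e f g i : ℤ} (ha : a = 0 ∨ a = 1 ∨ a = -1) (hb : b = 0 ∨ b = 1 ∨ b = -1)
    (he : e = 0 ∨ e = 1 ∨ e = -1) (hf : f = 0 ∨ f = 1 ∨ f = -1) (hg : g = 0 ∨ g = 1 ∨ g = -1)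
    (hi : i = 0 ∨ i = 1 ∨ i = -1) (h1 : a + b + e = -1) (h2 : -a + f + g = 1) (h3 : b + f + i = 0)
    (hn : a.natAbs + b.natAbs + e.natAbs + f.natAbs + g.natAbs + i.natAbs ≤ 3) :
    (a = -1 ∧ b = 0 ∧ e = 0 ∧ f = 0 ∧ g = 0 ∧ i = 0) ∨ (a ≠ 0 ∧ b ≠ 0 ∧ e ≠ 0) ∨
      (a ≠ 0 ∧ f ≠ 0 ∧ g ≠ 0) ∨ (a = 0 ∧ b = 0 ∧ e = -1 ∧ f = 0 ∧ g = 1) ∨
      (a = 0 ∧ b = 0 ∧ e = -1 ∧ f = 1 ∧ g = 0 ∧ i = -1) ∨
      (a = 0 ∧ b = -1 ∧ e = 0 ∧ f = 1 ∧ g = 0 ∧ i = 0) ∨
      (a = 0 ∧ b = -1 ∧ e = 0 ∧ f = 0 ∧ g = 1 ∧ i = 1) := by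
  rcases ha with rfl | rfl | rfl <;> rcases hb with rfl | rfl | rfl <;>
    rcases hf with rfl | rfl | rfl <;> rcases he with rfl | rfl | rfl <;>
    rcases hg with rfl | rfl | rfl <;> first | omega | simp_all

theorem scale_ne {σ : ℤ} (hσ : σ = 1 ∨ σ = -1) {x : ℚ} (hx : x ≠ 0) : (σ : ℚ) * x ≠ 0 :=
  mul_ne_zero (by rcases hσ with e | e <;> simp [e]) hx

theorem Data.exists_three (h : Data o c d U V L M N) :
    ∃ x, x ≠ o ∧ (d x = 3 ∨ d x = -3) ∧ U x ≠ d x := by
  classical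
  obtain ⟨r, s, w, P, P', Q, Q', R, S⟩ := h.exists_shape
  obtain ⟨nRw, nRP, nRP', nRQ, nRQ'⟩ := S.nR
  obtain ⟨nPQ, nPQ', nP'Q, nP'Q'⟩ := S.nPQ
  have hN0 : N ≠ 0 := fun e => mul_ne_zero h.L_ne h.M_ne (by rw [← h.hN, e, zero_mul])
  have c1o : c 1 o = 1 := h.co 1
  have c0o : c 0 o = 1 := h.co 0
  have c2o : c 2 o = 0 := h.co 2
  have c3o : c 3 o = 0 := h.co 3
  have hσw := S.s2.fa
  have hσP := S.s2.fb
  have hσP' := S.s2.fe
  have hσQ := S.s3.fb
  have hσQ' := S.s3.fe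
  have hσR := S.s0.fe
  -- signed degrees
  set Cw : ℚ := (c 2 w : ℚ) * d w with hCw
  set A : ℚ := (c 2 P : ℚ) * d P with hA
  set A' : ℚ := (c 2 P' : ℚ) * d P' with hA'
  set B : ℚ := (c 3 Q : ℚ) * d Q with hB
  set B' : ℚ := (c 3 Q' : ℚ) * d Q' with hB'
  set DR : ℚ := (c 0 R : ℚ) * d R with hDR
  have nA : A ≠ 0 := scale_ne hσP (h.d_ne P)
  have nA' : A' ≠ 0 := scale_ne hσP' (h.d_ne P')
  have nB : B ≠ 0 := scale_ne hσQ (h.d_ne Q)
  have nB' : B' ≠ 0 := scale_ne hσQ' (h.d_ne Q')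
  have nC : Cw ≠ 0 := scale_ne hσw (h.d_ne w)
  have nR : DR ≠ 0 := scale_ne hσR (h.d_ne R)
  set ζ : ι → ℚ := fun x => U x - r * d x with hζ
  set η : ι → ℚ := fun x => V x - s * d x with hη
  have zw : ζ w = 0 ∧ η w = 0 := ⟨by simp [hζ, S.zw.1], by simp [hη, S.zw.2]⟩
  have zQ : ζ Q = 0 ∧ ζ Q' = 0 := ⟨by simp [hζ, S.zQ.1], by simp [hζ, S.zQ.2]⟩
  have eP : η P = 0 ∧ η P' = 0 := ⟨by simp [hη, S.eP.1], by simp [hη, S.eP.2]⟩
  set p : ℚ := ζ o with hp
  set q : ℚ := η o with hq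
  have hpr : p = 1 - r := by simp [hp, hζ, h.uo, h.do_]
  set za : ℚ := (c 2 P : ℚ) * ζ P with hza
  set ec : ℚ := (c 3 Q : ℚ) * η Q with hec
  set zR : ℚ := (c 0 R : ℚ) * ζ R with hzR
  set eR : ℚ := (c 0 R : ℚ) * η R with heR
  have sz : ∀ k, ∑ x, (c k x : ℚ) * ζ x = 0 := fun k => (h.sum_shift k r).1
  have se : ∀ k, ∑ x, (c k x : ℚ) * η x = 0 := fun k => (h.sum_shift k s).2
  have sq := fun k => h.sum_shift2 k r s
  have sq' : ∀ k : Fin 4, ∑ x, (c k.castSucc x : ℚ) * (ζ x * ζ x / d x) = tUU k * L ∧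
      ∑ x, (c k.castSucc x : ℚ) * (ζ x * η x / d x) = tUV k * N ∧
      ∑ x, (c k.castSucc x : ℚ) * (η x * η x / d x) = tVV k * M := sq
  have one : ∀ {σ : ℤ} (hσ : σ = 1 ∨ σ = -1) (y y' : ℚ) (x : ι),
      (σ : ℚ) * (y * y' / d x) = ((σ : ℚ) * y) * ((σ : ℚ) * y') / ((σ : ℚ) * d x) := by
    intro σ hσ y y' x
    rcases hσ with rfl | rfl <;> simp
    ring
  have ecP : (c 2 P' : ℚ) * ζ P' = -za := by
    have := sz 2
    rw [S.s2.sum, c2o, zw.1] at this
    simp only [Int.cast_zero, zero_mul, mul_zero, zero_add, add_zero] at this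
    rw [hza]; linarith
  have ecQ : (c 3 Q' : ℚ) * η Q' = -ec := by
    have := se 3
    rw [S.s3.sum, c3o, zw.2] at this
    simp only [Int.cast_zero, zero_mul, mul_zero, zero_add, add_zero] at this
    rw [hec]; linarith
  have d2 : Cw + A + A' = 0 := by
    have := h.sd 2
    rw [S.s2.sum, c2o] at this
    simpa [hCw, hA, hA'] using this
  have d3 : -Cw + B + B' = 0 := by
    have := h.sd 3
    rw [S.s3.sum, c3o, S.cw] at this
    simpa [hCw, hB, hB'] using this
  have d0 : 1 + A + B + DR = 0 := by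
    have := h.sd 0
    rw [S.s0.sum, c0o, S.cP, S.cQ, h.do_] at this
    simpa [hA, hB, hDR] using this
  have z0 : p + za + zR = 0 := by
    have := sz 0
    rw [S.s0.sum, c0o, S.cP, S.cQ, zQ.1] at this
    simpa [hp, hza, hzR] using this
  have e0 : q + ec + eR = 0 := by
    have := se 0
    rw [S.s0.sum, c0o, S.cP, S.cQ, eP.1] at this
    simpa [hq, hec, heR] using this
  have do1 : d o = 1 := h.do_
  have f3 : za * za / A + za * za / A' = 3 * L := by
    have := (sq' 2).1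
    rw [show (2 : Fin 4).castSucc = 2 from rfl, S.s2.sum, c2o, one hσP, one hσP', zw.1, ecP] at this
    simpa [tUU, hA, hA', hza] using this
  have f4 : ec * ec / B + ec * ec / B' = 3 * M := by
    have := (sq' 3).2.2
    rw [show (3 : Fin 4).castSucc = 3 from rfl, S.s3.sum, c3o, one hσQ, one hσQ', zw.2, ecQ] at this
    simpa [tVV, hB, hB', hec] using this
  have f0 : p * p + za * za / A + zR * zR / DR = 3 * L ∧ p * q + zR * eR / DR = 3 * N ∧
      q * q + ec * ec / B + eR * eR / DR = 6 * M := by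
    obtain ⟨u1, u2, u3⟩ := sq' 0
    rw [show (0 : Fin 4).castSucc = 0 from rfl, S.s0.sum, c0o, S.cP, S.cQ, one hσP, one hσQ, one hσR,
      do1] at u1 u2 u3
    rw [zQ.1] at u1 u2
    rw [eP.1] at u2 u3
    exact ⟨by simpa [tUU, hA, hDR, hzR, hza, hp] using u1,
      by simpa [tUV, hDR, hzR, heR, hp, hq] using u2,
      by simpa [tVV, hB, hDR, heR, hec, hq] using u3⟩
  have za_ne : za ≠ 0 := fun e => h.L_ne (by rw [e] at f3; simp at f3; linarith)
  have ec_ne : ec ≠ 0 := fun e => h.M_ne (by rw [e] at f4; simp at f4; linarith)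
  -- the second combination
  obtain ⟨a₁, b₁, e₁, h1⟩ := exists_supp3 o (c 1) (by rw [h.gram, h.co]; rfl)
  have ne_w : w ≠ o := S.s2.ao
  have e12 : c 2 w * c 1 w + c 2 P * c 1 P + c 2 P' * c 1 P' = -1 := by
    have := S.s2.sum (R := ℤ) (c 1)
    simp only [Int.cast_id] at this
    rw [h.gram 2 1, c2o] at this
    simp [gm] at this
    omega
  have e13 : -(c 2 w * c 1 w) + c 3 Q * c 1 Q + c 3 Q' * c 1 Q' = 1 := by
    have := S.s3.sum (R := ℤ) (c 1)
    simp only [Int.cast_id] at this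
    rw [h.gram 3 1, c3o, S.cw] at this
    simp [gm] at this
    omega
  have e10 : c 2 P * c 1 P + c 3 Q * c 1 Q + c 0 R * c 1 R = 0 := by
    have := S.s0.sum (R := ℤ) (c 1)
    simp only [Int.cast_id] at this
    rw [h.gram 0 1, c0o, c1o, S.cP, S.cQ] at this
    simp [gm] at this
    omega
  have six := h1.abs_sum_le {w, P, P', Q, Q', R} (by
    simp [ne_w.symm, S.s2.bo.symm, S.s2.eo.symm, S.s3.bo.symm, S.s3.eo.symm, S.s0.eo.symm])
  rw [Finset.sum_insert (by simp [S.s2.ab, S.s2.ae, S.s3.ab, S.s3.ae, nRw.symm]),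
    Finset.sum_insert (by simp [S.s2.be, nPQ, nPQ', nRP.symm]),
    Finset.sum_insert (by simp [nP'Q, nP'Q', nRP'.symm]),
    Finset.sum_insert (by simp [S.s3.be, nRQ.symm]),
    Finset.sum_pair nRQ'.symm] at six
  have hcase : (c 2 w * c 1 w = -1 ∧ c 1 P = 0 ∧ c 1 P' = 0 ∧ c 1 Q = 0 ∧ c 1 Q' = 0 ∧ c 1 R = 0) ∨
      (c 1 w ≠ 0 ∧ c 1 P ≠ 0 ∧ c 1 P' ≠ 0) ∨ (c 1 w ≠ 0 ∧ c 1 Q ≠ 0 ∧ c 1 Q' ≠ 0) ∨
      (c 1 w = 0 ∧ c 1 P = 0 ∧ c 1 P' = -c 2 P' ∧ c 1 Q = 0 ∧ c 1 Q' = c 3 Q') ∨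
      (c 1 w = 0 ∧ c 1 P = 0 ∧ c 1 P' = -c 2 P' ∧ c 1 Q = c 3 Q ∧ c 1 Q' = 0 ∧ c 1 R = -c 0 R) ∨
      (c 1 w = 0 ∧ c 1 P = -c 2 P ∧ c 1 P' = 0 ∧ c 1 Q = c 3 Q ∧ c 1 Q' = 0 ∧ c 1 R = 0) ∨
      (c 1 w = 0 ∧ c 1 P = -c 2 P ∧ c 1 P' = 0 ∧ c 1 Q = 0 ∧ c 1 Q' = c 3 Q' ∧ c 1 R = c 0 R) := by
    have sg : ∀ {σ y : ℤ}, (σ = 1 ∨ σ = -1) → (y = 0 ∨ y = 1 ∨ y = -1) →
        ((σ * y = 0 ∨ σ * y = 1 ∨ σ * y = -1) ∧ (σ * y).natAbs = y.natAbs) := by
      rintro σ y (rfl | rfl) (rfl | rfl | rfl) <;> decide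
    have bw := sg hσw (h1.bound ne_w)
    have bP := sg hσP (h1.bound S.s2.bo)
    have bP' := sg hσP' (h1.bound S.s2.eo)
    have bQ := sg hσQ (h1.bound S.s3.bo)
    have bQ' := sg hσQ' (h1.bound S.s3.eo)
    have bR := sg hσR (h1.bound S.s0.eo)
    rw [← bw.2, ← bP.2, ← bP'.2, ← bQ.2, ← bQ'.2, ← bR.2] at six
    have sv : ∀ {σ y k : ℤ}, (σ = 1 ∨ σ = -1) → σ * y = k → y = σ * k := by
      rintro σ y k (rfl | rfl) <;> intro e <;> omega
    rcases y_cases bw.1 bP.1 bP'.1 bQ.1 bQ'.1 bR.1 e12 e13 e10 (by omega) with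
      ⟨a, b, e, f, g, i⟩ | ⟨a, b, e⟩ | ⟨a, b, e⟩ | ⟨a, b, e, f, g⟩ | ⟨a, b, e, f, g, i⟩ |
      ⟨a, b, e, f, g, i⟩ | ⟨a, b, e, f, g, i⟩
    · left
      exact ⟨a, by simpa using sv hσP b, by simpa using sv hσP' e, by simpa using sv hσQ f,
        by simpa using sv hσQ' g, by simpa using sv hσR i⟩
    · right; left
      exact ⟨fun z => a (by simp [z]), fun z => b (by simp [z]), fun z => e (by simp [z])⟩
    · right; right; left
      exact ⟨fun z => a (by simp [z]), fun z => b (by simp [z]), fun z => e (by simp [z])⟩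
    · right; right; right; left
      exact ⟨by simpa using sv hσw a, by simpa using sv hσP b, by simpa using sv hσP' e,
        by simpa using sv hσQ f, by simpa using sv hσQ' g⟩
    · right; right; right; right; left
      exact ⟨by simpa using sv hσw a, by simpa using sv hσP b, by simpa using sv hσP' e,
        by simpa using sv hσQ f, by simpa using sv hσQ' g, by simpa using sv hσR i⟩
    · right; right; right; right; right; left
      exact ⟨by simpa using sv hσw a, by simpa using sv hσP b, by simpa using sv hσP' e,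
        by simpa using sv hσQ f, by simpa using sv hσQ' g, by simpa using sv hσR i⟩
    · right; right; right; right; right; right
      exact ⟨by simpa using sv hσw a, by simpa using sv hσP b, by simpa using sv hσP' e,
        by simpa using sv hσQ f, by simpa using sv hσQ' g, by simpa using sv hσR i⟩
  rcases hcase with ⟨k4, k1, k9, k2, k7, kR⟩ | ⟨kw, k1, k9⟩ | ⟨kw, k2, k7⟩ |
    ⟨kw, k1, k9, k2, k7⟩ | ⟨kw, k1, k9, k2, k7, kR⟩ | ⟨kw, k1, k9, k2, k7, kR⟩ |
    ⟨kw, k1, k9, k2, k7, kR⟩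
  · -- the fifth combination separates
    exfalso
    have kw : c 1 w = -c 2 w := by rcases hσw with e | e <;> rw [e] at k4 ⊢ <;> omega
    obtain ⟨x, y, hxy⟩ := h1.rotate ne_w (by omega)
    have g40 := S.s0.sum (R := ℤ) (c 4)
    have g41 := hxy.sum (R := ℤ) (c 4)
    have g42 := S.s2.sum (R := ℤ) (c 4)
    have g43 := S.s3.sum (R := ℤ) (c 4)
    have c4o : c 4 o = 0 := h.co 4
    simp only [Int.cast_id] at g40 g41 g42 g43
    rw [h.gram 0 4, c4o, S.cP, S.cQ] at g40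
    rw [h.gram 1 4, c4o, kw] at g41
    rw [h.gram 2 4, c4o] at g42
    rw [h.gram 3 4, c4o, S.cw] at g43
    simp [gm] at g40 g41 g42 g43
    have n4 : ∑ v, c 4 v * c 4 v = 2 := h.gram 4 4
    have b4 : ∀ v, c 4 v = 0 ∨ c 4 v = 1 ∨ c 4 v = -1 := fun v => by
      have hv : c 4 v * c 4 v ≤ 2 := n4 ▸ Finset.single_le_sum (f := fun v => c 4 v * c 4 v)
        (fun v _ => mul_self_nonneg _) (Finset.mem_univ v)
      have h1' : c 4 v ≤ 1 := by nlinarith
      have h2' : -1 ≤ c 4 v := by nlinarith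
      omega
    have twin : ∀ {a b : ι}, a ≠ b → c 4 a ≠ 0 → c 4 b ≠ 0 →
        (c 4 a : ℚ) * ζ a + (c 4 b : ℚ) * ζ b = 0 ∧ (c 4 a : ℚ) * η a + (c 4 b : ℚ) * η b = 0 :=
      fun hab ha hb => ⟨(two_sum _ n4 hab ha hb ζ).2.symm.trans (sz 4),
        (two_sum _ n4 hab ha hb η).2.symm.trans (se 4)⟩
    by_cases hw4 : c 4 w = 0
    · -- a pair among the other four
      rw [hw4] at g42 g43
      have hP : c 4 P ≠ 0 ∨ c 4 P' ≠ 0 := by
        by_contra hn; simp only [not_or, ne_eq, not_not] at hn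
        rw [hn.1, hn.2] at g42; simp at g42
      have hQ : c 4 Q ≠ 0 ∨ c 4 Q' ≠ 0 := by
        by_contra hn; simp only [not_or, ne_eq, not_not] at hn
        rw [hn.1, hn.2] at g43; simp at g43
      have zP : ζ P ≠ 0 := fun e => za_ne (by simp [hza, e])
      have zP' : ζ P' ≠ 0 := fun e => za_ne (by rw [e, mul_zero] at ecP; linarith)
      rcases hP with hP | hP <;> rcases hQ with hQ | hQ
      · have := (twin nPQ hP hQ).1; rw [zQ.1] at this; simp [hP, zP] at this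
      · have := (twin nPQ' hP hQ).1; rw [zQ.2] at this; simp [hP, zP] at this
      · have := (twin nP'Q hP hQ).1; rw [zQ.1] at this; simp [hP, zP'] at this
      · have := (twin nP'Q' hP hQ).1; rw [zQ.2] at this; simp [hP, zP'] at this
    · have hxy4 : c 4 x ≠ 0 ∨ c 4 y ≠ 0 := by
        by_contra hn; simp only [not_or, ne_eq, not_not] at hn
        rw [hn.1, hn.2] at g41
        rcases hσw with e | e <;> rw [e] at g41 <;> simp at g41 <;> omega
      -- one of them is a twin of `w`, so the second combination has rank one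
      have key : ∀ x y, Supp3 o (c 1) w x y → c 4 x ≠ 0 → False := by
        intro x y hxy hx
        obtain ⟨t1, t2⟩ := twin hxy.ab hw4 hx
        rw [zw.1] at t1
        rw [zw.2] at t2
        have zx : ζ x = 0 := by simpa [hx] using t1
        have ex : η x = 0 := by simpa [hx] using t2
        have a1 := sz 1
        have a2 := se 1
        obtain ⟨b1, b2, b3⟩ := sq' 1
        rw [show (1 : Fin 4).castSucc = 1 from rfl, hxy.sum, one hxy.fe, c1o, zw.1, zx, do1] at b1 b2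
        rw [show (1 : Fin 4).castSucc = 1 from rfl, hxy.sum, one hxy.fe, c1o, zw.2, ex, do1] at b3
        rw [hxy.sum, c1o, zw.1, zx] at a1
        rw [hxy.sum, c1o, zw.2, ex] at a2
        simp only [Int.cast_one, one_mul, mul_zero, zero_mul, zero_div, add_zero, div_one] at a1 a2 b1 b2 b3
        rw [show (c 1 y : ℚ) * ζ y = -ζ o by linarith] at b1 b2
        rw [show (c 1 y : ℚ) * η y = -η o by linarith] at b2 b3
        simp [tUU, tUV, tVV] at b1 b2 b3
        have hd : (ζ o * ζ o + ζ o * ζ o / ((c 1 y : ℚ) * d y)) *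
            (η o * η o + η o * η o / ((c 1 y : ℚ) * d y)) =
            (ζ o * η o + ζ o * η o / ((c 1 y : ℚ) * d y)) ^ 2 := by ring
        rw [b1, b2, b3] at hd
        refine mul_ne_zero h.L_ne h.M_ne ?_
        linear_combination (2 / 9 : ℚ) * hd + (1 / 2 : ℚ) * h.hN
      rcases hxy4 with hx | hy
      · exact key x y hxy hx
      · exact key y x hxy.swap23 hy
  · exfalso
    obtain ⟨z, hz⟩ := h1.rotate2 ne_w kw S.s2.bo k1 S.s2.ab
    have hzQ : z = P' := by
      by_contra hne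
      exact k9 (hz.off P' S.s2.eo S.s2.ae.symm S.s2.be.symm (Ne.symm hne))
    subst hzQ
    have a2 := se 1
    have b3 := (sq' 1).2.2
    rw [hz.sum, c1o, zw.2, eP.1, eP.2] at a2
    rw [show (1 : Fin 4).castSucc = 1 from rfl, hz.sum, c1o, zw.2, eP.1, eP.2] at b3
    simp only [Int.cast_one, one_mul, mul_zero, add_zero, zero_div] at a2 b3
    rw [a2] at b3
    simp [tVV, h.M_ne] at b3
  · exfalso
    obtain ⟨z, hz⟩ := h1.rotate2 ne_w kw S.s3.bo k2 S.s3.ab
    have hzQ : z = Q' := by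
      by_contra hne
      exact k7 (hz.off Q' S.s3.eo S.s3.ae.symm S.s3.be.symm (Ne.symm hne))
    subst hzQ
    have a2 := sz 1
    have b3 := (sq' 1).1
    rw [hz.sum, c1o, zw.1, zQ.1, zQ.2] at a2
    rw [show (1 : Fin 4).castSucc = 1 from rfl, hz.sum, c1o, zw.1, zQ.1, zQ.2] at b3
    simp only [Int.cast_one, one_mul, mul_zero, add_zero, zero_div] at a2 b3
    rw [a2] at b3
    simp [tUU, h.L_ne] at b3
  · -- the configuration of the group of order 648
    have n9 : c 1 P' ≠ 0 := by rw [k9]; omega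
    have n7 : c 1 Q' ≠ 0 := by rw [k7]; omega
    obtain ⟨T, hT⟩ := h1.rotate2 S.s2.eo n9 S.s3.eo n7 nP'Q'
    set DS : ℚ := (c 1 T : ℚ) * d T with hDS
    set zS : ℚ := (c 1 T : ℚ) * ζ T with hzS
    set eS : ℚ := (c 1 T : ℚ) * η T with heS
    have nS : DS ≠ 0 := scale_ne hT.fe (h.d_ne T)
    have d1 : 1 - A' + B' + DS = 0 := by
      have := h.sd 1
      rw [hT.sum, c1o, k9, k7, do1] at this
      simp [hA', hB', hDS] at this ⊢
      linarith
    have z1 : p + za + zS = 0 := by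
      have := sz 1
      rw [hT.sum, c1o, k9, k7, zQ.2] at this
      simp at this
      simp only [hp, hzS]
      linarith [ecP]
    have e1 : q - ec + eS = 0 := by
      have := se 1
      rw [hT.sum, c1o, k9, k7, eP.2] at this
      simp at this
      simp only [hq, heS]
      linarith [ecQ]
    have f1 : p * p - za * za / A' + zS * zS / DS = 3 / 2 * L ∧ p * q + zS * eS / DS = 3 / 2 * N ∧
        q * q + ec * ec / B' + eS * eS / DS = 9 / 2 * M := by
      obtain ⟨u1, u2, u3⟩ := sq' 1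
      rw [show (1 : Fin 4).castSucc = 1 from rfl, hT.sum, c1o, k9, k7, one hT.fe, Int.cast_neg,
        neg_mul, one hσP', one hσQ', do1] at u1 u2 u3
      rw [zQ.2, ecP] at u1 u2
      rw [eP.2, ecQ] at u2 u3
      exact ⟨by simpa [tUU, hA', hDS, hzS, hp, sub_eq_add_neg] using u1,
        by simpa [tUV, hDS, hzS, heS, hp, hq] using u2,
        by simpa [tVV, hB', hDS, heS, hq] using u3⟩
    obtain ⟨g0, g1, g2⟩ := f0
    obtain ⟨g3, g4, g5⟩ := f1
    have eA' : A' = -(A + Cw) := by linarith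
    have eB' : B' = Cw - B := by linarith
    have eDR : DR = -1 - A - B := by linarith
    have eDS : DS = B - A - 2 * Cw - 1 := by linarith
    have ezR : zR = -(p + za) := by linarith
    have eeR : eR = -(q + ec) := by linarith
    have ezS : zS = -(p + za) := by linarith
    have eeS : eS = -(q - ec) := by linarith
    have n9' : A + Cw ≠ 0 := fun e => nA' (by linarith)
    obtain ⟨hp0, hB3⟩ := std_case (p := p) (q := q) (a := za) (c := ec) (A := A) (B := B) (C := Cw)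
      nA nB nC (eDR ▸ nR) (eDS ▸ nS) n9' (eB' ▸ nB') za_ne ec_ne h.L_ne h.M_ne h.hN
      (by rw [← f3, eA', div_neg]; ring) (by rw [← f4, eB'])
      (by rw [← g0, ← eDR, ezR]; ring) (by rw [← g1, ← eDR, ezR, eeR]; ring)
      (by rw [← g2, ← eDR, eeR]; ring) (by rw [← g3, ← eDS, eA', ezS, div_neg]; ring)
      (by rw [← g4, ← eDS, ezS, eeS]; ring) (by rw [← g5, ← eDS, eB', eeS]; ring)
    refine ⟨Q, S.s3.bo, ?_, ?_⟩
    · rcases hB3 with e | e
      · rcases hσQ with eq | eq <;> rw [hB, eq] at e <;> simp at e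
        · exact Or.inl e
        · exact Or.inr (by linarith)
      · exfalso
        obtain ⟨z, hz⟩ := h.d_int Q
        rw [hB, hz] at e
        have e' : 3 * (c 3 Q * z) = -1 := by exact_mod_cast e
        omega
    · rw [S.zQ.1]
      intro e
      apply hp0
      rw [hpr]
      have : (r - 1) * d Q = 0 := by linear_combination e
      rcases mul_eq_zero.1 this with e' | e'
      · linarith
      · exact absurd e' (h.d_ne Q)
  · exfalso
    have n9 : c 1 P' ≠ 0 := by rw [k9]; omega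
    have n2 : c 1 Q ≠ 0 := by rw [k2]; omega
    obtain ⟨T, hT⟩ := h1.rotate2 S.s2.eo n9 S.s3.bo n2 nP'Q
    have hTR : T = R := by
      by_contra hne
      have := hT.off R S.s0.eo nRP' nRQ (Ne.symm hne)
      omega
    subst hTR
    have a1 := sz 1
    have u2 := (sq' 1).2.1
    rw [hT.sum, c1o, k9, k2, kR, zQ.1] at a1
    rw [show (1 : Fin 4).castSucc = 1 from rfl, hT.sum, c1o, k9, k2, kR, zQ.1, eP.2, do1] at u2
    simp at a1 u2
    have zR0 : zR = 0 := by simp only [hzR, hp] at z0 ⊢; linarith [ecP]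
    have zT : ζ T = 0 := by
      have := hσR; rcases this with e | e <;> simpa [hzR, e] using zR0
    rw [zT] at u2
    have g1 := f0.2.1
    rw [zR0] at g1
    simp [tUV, hp, hq] at u2 g1
    exact hN0 (by linarith)
  · -- a second configuration, leading to a linear character
    exfalso
    have n1 : c 1 P ≠ 0 := by rw [k1]; omega
    have n2 : c 1 Q ≠ 0 := by rw [k2]; omega
    obtain ⟨T, hT⟩ := h1.rotate2 S.s2.bo n1 S.s3.bo n2 nPQ
    set DS : ℚ := (c 1 T : ℚ) * d T with hDS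
    set zS : ℚ := (c 1 T : ℚ) * ζ T with hzS
    set eS : ℚ := (c 1 T : ℚ) * η T with heS
    have nS : DS ≠ 0 := scale_ne hT.fe (h.d_ne T)
    have d1 : 1 - A + B + DS = 0 := by
      have := h.sd 1
      rw [hT.sum, c1o, k1, k2, do1] at this
      simp [hA, hB, hDS] at this ⊢
      linarith
    have z1 : p - za + zS = 0 := by
      have := sz 1
      rw [hT.sum, c1o, k1, k2, zQ.1] at this
      simp at this
      simp only [hp, hzS, hza]
      linarith
    have e1 : q + ec + eS = 0 := by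
      have := se 1
      rw [hT.sum, c1o, k1, k2, eP.1] at this
      simp at this
      simp only [hq, heS, hec]
      linarith
    have f1 : p * p - za * za / A + zS * zS / DS = 3 / 2 * L ∧ p * q + zS * eS / DS = 3 / 2 * N ∧
        q * q + ec * ec / B + eS * eS / DS = 9 / 2 * M := by
      obtain ⟨u1, u2, u3⟩ := sq' 1
      rw [show (1 : Fin 4).castSucc = 1 from rfl, hT.sum, c1o, k1, k2, one hT.fe, Int.cast_neg,
        neg_mul, one hσP, one hσQ, do1] at u1 u2 u3
      rw [zQ.1] at u1 u2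
      rw [eP.1] at u2 u3
      exact ⟨by simpa [tUU, hA, hDS, hzS, hp, hza, sub_eq_add_neg] using u1,
        by simpa [tUV, hDS, hzS, heS, hp, hq] using u2,
        by simpa [tVV, hB, hDS, heS, hq, hec] using u3⟩
    obtain ⟨g0, g1, g2⟩ := f0
    obtain ⟨g3, g4, g5⟩ := f1
    have eA1 : A = -1 - B - DR := by linarith
    have eA' : A' = -(-1 - B - DR + Cw) := by linarith
    have eB' : B' = Cw - B := by linarith
    have eDS : DS = -2 - 2 * B - DR := by linarith
    have ezR : zR = -(p + za) := by linarith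
    have eeR : eR = -(q + ec) := by linarith
    have ezS : zS = -(p - za) := by linarith
    have eeS : eS = -(q + ec) := by linarith
    have hB1 : B' = 1 := by
      rw [eB']
      refine alt_case (p := p) (q := q) (a := za) (c := ec) (A := B) (B := DR) (C := Cw) nB nR
        (eA1 ▸ nA) (eDS ▸ nS) (fun e => nA' (by linarith)) (eB' ▸ nB') za_ne ec_ne h.L_ne h.M_ne h.hN
        ?_ ?_ ?_ ?_ ?_ ?_ ?_ ?_
      · rw [← eA1, ← f3, eA', div_neg]; rw [eA1]; ring
      · rw [← f4, eB']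
      · rw [← eA1, ← g0, ezR]; ring
      · rw [← g1, ezR, eeR]; ring
      · rw [← g2, eeR]; ring
      · rw [← eA1, ← eDS, ← g3, ezS]; ring
      · rw [← eDS, ← g4, ezS, eeS]; ring
      · rw [← eDS, ← g5, eeS]; ring
    refine absurd (h.lin Q' ?_) (by omega)
    rcases hσQ' with eq | eq <;> rw [hB', eq] at hB1 <;> simp at hB1
    · exact Or.inl hB1
    · exact Or.inr (by linarith)
  · exfalso
    have n1 : c 1 P ≠ 0 := by rw [k1]; omega
    have n7 : c 1 Q' ≠ 0 := by rw [k7]; omega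
    obtain ⟨T, hT⟩ := h1.rotate2 S.s2.bo n1 S.s3.eo n7 nPQ'
    have hTR : T = R := by
      by_contra hne
      have := hT.off R S.s0.eo nRP nRQ' (Ne.symm hne)
      omega
    subst hTR
    have a1 := sz 1
    rw [hT.sum, c1o, k1, k7, kR, zQ.2] at a1
    simp at a1
    exact za_ne (by simp only [hp, hzR, hza] at z0 ⊢; linarith)

end Cfsg.Agent.ThreeFullWreath
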