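import Cfsg.Agent.ThreeFullWreath.Build
import Cfsg.Agent.ThreeFullWreath.Cases
import Cfsg.Agent.Coprime.Generation
import Mathlib.GroupTheory.Transfer

/-!
# The configuration fills the whole group
-/

set_option autoImplicit false

namespace Cfsg.Agent.ThreeFullWreath

open Cfsg Cfsg.Agent Subgroup
open scoped ComplexConjugate

universe u

theorem right_one_cls : ∀ m : M, m.right = 1 → cls m = 0 ∨ cls m = 1 ∨ cls m = 3 ∨ cls m = 8 := by
  decide +kernel

theorem comm_cls : ∀ m : M, m.right ≠ 1 → cls m = 2 ∨ cls m = 5 ∨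
    ∃ q : Q, cls (SemidirectProduct.inr q * m * (SemidirectProduct.inr q)⁻¹ * m⁻¹) = 2 ∨
      cls (SemidirectProduct.inr q * m * (SemidirectProduct.inr q)⁻¹ * m⁻¹) = 5 := by
  decide +kernel

theorem jvals_zero : ∀ (j : Fin 4) (c : Fin 14), ¬(c = 0 ∨ c = 1 ∨ c = 3 ∨ c = 8) → jvals j c = 0 := by
  decide +kernel

theorem A_cube : ∀ t : A, t ^ 3 = 1 := by decide +kernel

theorem five_cube : ∀ m : M, cls m = 5 → cls (m * m * m) = 2 := by decide +kernel

theorem ofAdd_ne : (SemidirectProduct.inl (Multiplicative.ofAdd (1, 0, 0)) : M) ≠ 1 ∧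
    rep 0 = 1 := by
  refine ⟨?_, ?_⟩ <;> decide +kernel

theorem jsums : ∀ X : Fin 14 → ℤ, ∀ j : Fin 4, ∑ c, (size c : ℤ) * (jvals j c * X c) =
    size 0 * (jvals j 0 * X 0) + size 1 * (jvals j 1 * X 1) + size 3 * (jvals j 3 * X 3) +
      size 8 * (jvals j 8 * X 8) := by
  intro X j
  fin_cases j <;> simp [Fin.sum_univ_succ, jvals, size] <;> ring

variable {G : Type u} [Group G] [Fintype G] {φ : M →* G}

/-- A character of degree three has the elementary group in its kernel. -/
theorem three_ker {χ : G → ℂ} (hχ : IsCharacter G χ) (h3 : χ 1 = 3) {m : M} (hm : m.right = 1) :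
    χ (φ m) = χ 1 := by
  classical
  have hψ : IsCharacter M (fun m => χ (φ m)) := Char.isCharacter_comp φ hχ
  have hcl := Char.isClassFunction_of_isCharacter hψ
  have hint : ∀ c : Fin 14, c = 0 ∨ c = 1 ∨ c = 3 ∨ c = 8 → ∃ z : ℤ, χ (φ (rep c)) = z := fun c hc => by
    have hr : (rep c).right = 1 := by rcases hc with rfl | rfl | rfl | rfl <;> decide +kernel
    obtain ⟨-, -, -, b, -, -, -, hb, -, -, -⟩ := ThreeKlein.six_values hχ (x := φ (rep c))
      (by rw [← map_pow, show (6 : ℕ) = 3 * 2 from rfl, pow_mul, pow_three_of_right _ hr, one_pow, map_one])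
      (by rw [← map_inv]; exact φ.map_isConj (isConj_iff_cls.2 (cls_inv _).symm))
    exact ⟨b, hb⟩
  obtain ⟨X1, h1⟩ := hint 1 (by decide)
  obtain ⟨X3, h3'⟩ := hint 3 (by decide)
  obtain ⟨X8, h8⟩ := hint 8 (by decide)
  let X : Fin 14 → ℤ := fun c => if c = 1 then X1 else if c = 3 then X3 else if c = 8 then X8 else 3
  have key : ∀ j : Fin 4, ∃ n : ℕ, ∑ c, (size c : ℤ) * (jvals j c * X c) = 648 * n := by
    intro j
    obtain ⟨n, hn⟩ := Char.classInner_isCharacter_eq_natCast (isCharacter_psiF (Fin.natAdd 9 j)) hψ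
    refine ⟨n, ?_⟩
    have e : ∀ c, (size c : ℂ) * ((jvals j c : ℂ) * conj (χ (φ (rep c)))) =
        ((size c : ℤ) * (jvals j c * X c) : ℤ) := by
      intro c
      by_cases hc : c = 0 ∨ c = 1 ∨ c = 3 ∨ c = 8
      · rcases hc with rfl | rfl | rfl | rfl
        · rw [ofAdd_ne.2, map_one, h3, show (3 : ℂ) = ((3 : ℤ) : ℂ) by norm_num, map_intCast,
            show X 0 = 3 from rfl]
          push_cast
          rfl
        · rw [h1]; simp [X]
        · rw [h3']; simp [X]
        · rw [h8]; simp [X]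
      · have : jvals j c = 0 := jvals_zero j c hc
        simp [this]
    have hj : ∀ c, psiF (Fin.natAdd 9 j) (rep c) = (jvals j c : ℂ) := fun c => by
      rw [psiF_eq, jvals_spec, ev_apply]; simp
    have hn' : ∑ m : M, psiF (Fin.natAdd 9 j) m * conj (χ (φ m)) = (648 : ℂ) * n := by
      have := hn
      rw [classInner, card_M] at this
      field_simp at this
      push_cast at this
      linear_combination this
    have hstep : ∑ c, (size c : ℂ) * ((jvals j c : ℂ) * conj (χ (φ (rep c)))) = (648 : ℂ) * n := by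
      rw [← sum_cls (fun c => (jvals j c : ℂ) * conj (χ (φ (rep c)))), ← hn']
      refine Finset.sum_congr rfl fun m _ => ?_
      rw [apply_eq_rep (isClassFunction_psiF _) m, hj, ← apply_eq_rep hcl m]
    rw [Finset.sum_congr rfl fun c _ => e c, ← Int.cast_sum] at hstep
    exact_mod_cast hstep
  obtain ⟨n0, k0⟩ := key 0
  obtain ⟨n1, k1⟩ := key 1
  obtain ⟨n2, k2⟩ := key 2
  obtain ⟨n3, k3⟩ := key 3
  rw [jsums] at k0 k1 k2 k3
  simp [jvals, size, X] at k0 k1 k2 k3
  have hX : X1 = 3 ∧ X3 = 3 ∧ X8 = 3 := by omega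
  obtain ⟨rfl, rfl, rfl⟩ := hX
  rw [apply_eq_rep hcl m, h3]
  rcases right_one_cls m hm with e | e | e | e <;> rw [e]
  · rw [ofAdd_ne.2, map_one, h3]
  · simpa using h1
  · simpa using h3'
  · simpa using h8

omit [Fintype G] in
theorem Cfg.range_eq_top [Finite G] (h : Cfg φ) : φ.range = ⊤ := by
  classical
  haveI := Fintype.ofFinite G
  haveI : Fact (Nat.Prime 3) := ⟨Nat.prime_three⟩
  obtain ⟨o, c, d, U, V, L, M', N', -, hdata, hd, hdpos, hU⟩ := h.exists_data
  obtain ⟨χ, -, hd3, hU3⟩ := hdata.exists_three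
  have hd3' : d χ = 3 := by
    rcases hd3 with e | e
    · exact_mod_cast e
    · have : d χ = -3 := by exact_mod_cast e
      have := hdpos χ
      omega
  have hχ := Char.IsIrr.isCharacter χ.2
  set Ng := Char.kerSubgroup hχ with hNg
  have hA : ∀ m : M, m.right = 1 → φ m ∈ Ng := fun m hm =>
    three_ker hχ (by rw [hd, hd3']; norm_num) hm
  have hcon : ∀ m : M, cls m = 2 → φ m ∉ Ng := fun m hm hmem => by
    obtain ⟨k, hk⟩ := isConj_iff.1 (isConj_iff_cls.2 (show cls m = cls (rep 2) by rw [cls_rep, hm]))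
    have : φ (rep 2) ∈ Ng := by
      rw [← hk, map_mul, map_mul, map_inv]
      exact (inferInstance : Ng.Normal).conj_mem _ hmem _
    rw [hNg, Char.mem_kerSubgroup, hU, hd] at this
    exact hU3 (by exact_mod_cast this)
  have hmeet : ∀ m : M, φ m ∈ Ng → m.right = 1 := fun m hm => by
    by_contra hr
    have h5 : ∀ x : M, φ x ∈ Ng → cls x = 5 → False := fun x hx e =>
      hcon _ (five_cube x e) (by rw [map_mul, map_mul]; exact mul_mem (mul_mem hx hx) hx)
    rcases comm_cls m hr with e | e | ⟨q, e⟩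
    · exact hcon m e hm
    · exact h5 m hm e
    · have hq : φ (SemidirectProduct.inr q * m * (SemidirectProduct.inr q)⁻¹ * m⁻¹) ∈ Ng := by
        simp only [map_mul, map_inv]
        exact mul_mem ((inferInstance : Ng.Normal).conj_mem _ hm _) (inv_mem hm)
      rcases e with e | e
      · exact hcon _ e hq
      · exact h5 _ hq e
  set ι : A →* Ng := (φ.comp SemidirectProduct.inl).codRestrict Ng fun t => hA _ (by simp)
  have hι : Function.Injective ι := fun a b e =>
    SemidirectProduct.inl_injective (h.inj (congrArg Subtype.val e))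
  set Jn : Subgroup Ng := ι.range
  have hJn : ∀ y : Ng, y ∈ Jn ↔ ∃ m : M, m.right = 1 ∧ φ m = y := fun y => by
    refine ⟨fun ⟨t, ht⟩ => ⟨SemidirectProduct.inl t, by simp, congrArg Subtype.val ht⟩, ?_⟩
    rintro ⟨m, hm, e⟩
    refine ⟨m.left, Subtype.ext ?_⟩
    rw [← e]
    show φ (SemidirectProduct.inl m.left) = φ m
    conv_rhs => rw [← SemidirectProduct.inl_left_mul_inr_right m, hm, map_one, mul_one]
  have hcJ : Nat.card Jn = 27 := by
    rw [← Nat.card_congr (MonoidHom.ofInjective hι).toEquiv, Nat.card_eq_fintype_card]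
    rfl
  have hrange : ∀ y : Ng, (y : G) ∈ φ.range → y ∈ Jn := fun y ⟨m, hm⟩ =>
    (hJn y).2 ⟨m, hmeet m (hm ▸ y.2), hm⟩
  set e0 : M := SemidirectProduct.inl (Multiplicative.ofAdd (1, 0, 0))
  have hnorm : ∀ x : G, (∀ y : Ng, y ∈ Jn → ∃ m : M, m.right = 1 ∧ φ m = x * y * x⁻¹) → x ∈ φ.range := by
    intro x hx
    obtain ⟨m, -, hm⟩ := hx ⟨φ e0, hA _ (by simp [e0])⟩ ((hJn _).2 ⟨e0, by simp [e0], rfl⟩)
    exact h.fus (by simp [e0]) ofAdd_ne.1 hm.symm
  have hnJ : normalizer (Jn : Set Ng) = Jn := by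
    refine le_antisymm (fun x hx => hrange x (hnorm x fun y hy => ?_)) le_normalizer
    exact (hJn _).1 ((mem_normalizer_iff.1 hx y).1 hy)
  have hfac : 3 ^ (Nat.card Ng).factorization 3 = 27 := by
    have hN0 : Nat.card Ng ≠ 0 := Nat.card_pos.ne'
    have h1 : 3 ≤ (Nat.card Ng).factorization 3 :=
      (Nat.prime_three.pow_dvd_iff_le_factorization hN0).1
        (by have := card_subgroup_dvd_card Jn; rw [hcJ] at this; exact this)
    have h2 : ¬ 4 ≤ (Nat.card Ng).factorization 3 := fun e => by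
      have := Sylow.prime_dvd_card_quotient_normalizer (p := 3) (n := 3)
        ((Nat.prime_three.pow_dvd_iff_le_factorization hN0).2 e) (H := Jn) (by rw [hcJ]; norm_num)
      rw [hnJ] at this
      have h1 : Nat.card (Jn ⧸ Jn.comap Jn.subtype) = 1 := by
        rw [show Jn.comap Jn.subtype = ⊤ from eq_top_iff.2 fun x _ => x.2]
        exact Subgroup.index_top
      omega
    rw [show (Nat.card Ng).factorization 3 = 3 by omega]; norm_num
  set P : Sylow 3 Ng := Sylow.ofCard Jn (by rw [hfac, hcJ])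
  have hcomm : ∀ a ∈ Jn, ∀ b ∈ Jn, a * b = b * a := by
    rintro _ ⟨s, rfl⟩ _ ⟨t, rfl⟩
    rw [← map_mul, ← map_mul, mul_comm]
  have hP : normalizer ((P : Subgroup Ng) : Set Ng) ≤ centralizer ((P : Subgroup Ng) : Set Ng) := by
    show normalizer (Jn : Set Ng) ≤ centralizer (Jn : Set Ng)
    rw [hnJ]
    exact fun a ha b hb => hcomm b hb a ha
  set K := (MonoidHom.transferSylow P hP).ker with hK
  have hKc : IsComplement' K Jn := MonoidHom.ker_transferSylow_isComplement' P hP
  have h3K : ¬ 3 ∣ Nat.card K := MonoidHom.not_dvd_card_ker_transferSylow P hP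
  haveI : IsMulCommutative Jn := ⟨⟨fun a b => Subtype.ext (hcomm a a.2 b b.2)⟩⟩
  have hnc : ¬ IsCyclic Jn := fun hc => by
    obtain ⟨g, hg⟩ := hc.exists_ofOrder_eq_natCard (α := Jn)
    obtain ⟨t, ht⟩ := g.2
    have hg3 : g ^ 3 = 1 := by
      refine Subtype.ext ?_
      show (g : Ng) ^ 3 = 1
      rw [← ht, ← map_pow]
      rw [A_cube, map_one]
    have := Nat.le_of_dvd (by norm_num) (orderOf_dvd_of_pow_eq_one hg3)
    omega
  have hKbot : K = ⊥ := by
    rw [← Coprime.iSup_centralizer_eq (A := Jn) (K := K) hnc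
      (le_normalizer_of_normal.trans' le_top)
      (by rw [hcJ, show (27 : ℕ) = 3 ^ 3 from rfl];
          exact Nat.Coprime.pow_left 3 ((Nat.prime_three.coprime_iff_not_dvd).2 h3K))]
    refine eq_bot_iff.2 (iSup₂_le fun a ha y hy => ?_)
    obtain ⟨ha, ha1⟩ := ha
    obtain ⟨m, hm, hma⟩ := (hJn a).1 ha
    have hm1 : m ≠ 1 := fun e => ha1 (Subtype.ext (by rw [← hma, e, map_one]; rfl))
    have hy' : y ∈ Jn := hrange y (h.loc m hm hm1 (mem_centralizer_singleton_iff.2 (by
      rw [hma]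
      exact congrArg Subtype.val (mem_centralizer_singleton_iff.1 hy.2))))
    exact (disjoint_def.1 hKc.disjoint) hy.1 hy'
  have htop : Jn = ⊤ := isComplement'_bot_left.1 (hKbot ▸ hKc)
  refine eq_top_iff.2 fun x _ => hnorm x fun y hy => ?_
  obtain ⟨m, hm, he⟩ := (hJn ⟨x * y * x⁻¹, (inferInstance : Ng.Normal).conj_mem _ y.2 x⟩).1
    (htop ▸ mem_top _)
  exact ⟨m, hm, he⟩

end Cfsg.Agent.ThreeFullWreath
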