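import Cfsg.Agent.ThreeFullWreath.Data
import Cfsg.Agent.Char.Induced
import Mathlib.Analysis.Real.Sqrt

/-!
# Generalized characters of the model vanishing outside the special classes
-/

set_option autoImplicit false

namespace Cfsg.Agent.ThreeFullWreath

open Cfsg Cfsg.Agent
open scoped ComplexConjugate

/-- The number of an element of the complement. -/
def encQ (q : Q) : ℕ :=
  (2 * q.left.toAdd.1.val + q.left.toAdd.2.val) * 6 +
    match q.right with
    | .r i => (show ZMod 3 from i).val
    | .sr i => 3 + (show ZMod 3 from i).val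

/-- The number of an element. -/
def enc (m : M) : ℕ :=
  (9 * m.left.toAdd.1.val + 3 * m.left.toAdd.2.1.val + m.left.toAdd.2.2.val) * 24 + encQ m.right

/-- The element with a given number. -/
def dec (n : ℕ) : M :=
  ⟨Multiplicative.ofAdd (((n / 216 : ℕ) : ZMod 3), ((n / 72 % 3 : ℕ) : ZMod 3), ((n / 24 % 3 : ℕ) : ZMod 3)),
    ⟨Multiplicative.ofAdd (((n % 24 / 12 : ℕ) : ZMod 2), ((n % 24 / 6 % 2 : ℕ) : ZMod 2)),
      if n % 6 < 3 then .r ((n % 6 : ℕ) : ZMod 3) else .sr ((n % 6 : ℕ) : ZMod 3)⟩⟩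

/-- The class of an element. -/
def cls (m : M) : Fin 14 := ⟨(tabC >>> (4 * enc m)) % 16 % 14, Nat.mod_lt _ (by norm_num)⟩

/-- An element conjugating the representative to an element. -/
def cjr (m : M) : M := dec ((tabK >>> (10 * enc m)) % 1024)

theorem cls_spec : ∀ m, cjr m * rep (cls m) * (cjr m)⁻¹ = m := by decide +kernel

theorem cls_gen : ∀ m, cls (ge * m * ge⁻¹) = cls m ∧ cls (gc * m * gc⁻¹) = cls m ∧
    cls (gd * m * gd⁻¹) = cls m ∧ cls (gt * m * gt⁻¹) = cls m := by decide +kernel

theorem cls_conj (k : M) : ∀ m, cls (k * m * k⁻¹) = cls m := by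
  have hk : k ∈ Subgroup.closure ({ge, gc, gd, gt} : Set M) := closure_gens ▸ Subgroup.mem_top k
  induction hk using Subgroup.closure_induction with
  | mem x hx =>
    intro m
    obtain ⟨h1, h2, h3, h4⟩ := cls_gen m
    rcases hx with rfl | rfl | rfl | rfl
    · exact h1
    · exact h2
    · exact h3
    · exact h4
  | one => intro m; simp
  | mul x y _ _ hx hy =>
    intro m
    rw [show x * y * m * (x * y)⁻¹ = x * (y * m * y⁻¹) * x⁻¹ by group, hx, hy]
  | inv x _ hx =>
    intro m
    have := hx (x⁻¹ * m * x⁻¹⁻¹)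
    rw [show x * (x⁻¹ * m * x⁻¹⁻¹) * x⁻¹ = m by group] at this
    exact this.symm

theorem cls_rep : ∀ c, cls (rep c) = c := by decide +kernel

theorem size_eq : ∀ c, (Finset.univ.filter fun m => cls m = c).card = size c := by decide +kernel

theorem cls_inv : ∀ m, cls m⁻¹ = cls m := by decide +kernel

theorem isConj_iff_cls {x y : M} : IsConj x y ↔ cls x = cls y := by
  refine ⟨fun h => ?_, fun h => ?_⟩
  · obtain ⟨k, rfl⟩ := isConj_iff.1 h
    exact (cls_conj k x).symm
  · have hx : IsConj (rep (cls x)) x := isConj_iff.2 ⟨cjr x, cls_spec x⟩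
    have hy : IsConj (rep (cls y)) y := isConj_iff.2 ⟨cjr y, cls_spec y⟩
    exact hx.symm.trans (h ▸ hy)

theorem apply_eq_rep {F : M → ℂ} (hF : IsClassFunction M F) (m : M) : F m = F (rep (cls m)) := by
  conv_lhs => rw [← cls_spec m]
  exact hF _ _

theorem sum_cls (f : Fin 14 → ℂ) : ∑ m : M, f (cls m) = ∑ c, (size c : ℂ) * f c := by
  rw [← Finset.sum_fiberwise Finset.univ cls]
  refine Finset.sum_congr rfl fun c _ => ?_
  rw [Finset.sum_congr rfl fun m hm => by rw [(Finset.mem_filter.1 hm).2], Finset.sum_const,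
    size_eq, nsmul_eq_mul]

theorem card_M : Nat.card M = 648 := by
  rw [Nat.card_eq_fintype_card]
  decide +kernel

/-! ### Twelfth roots of unity -/

/-- Coordinates in the basis `1, ζ, ζ², ζ³`. -/
abbrev Z4 : Type := ℤ × ℤ × ℤ × ℤ

/-- The powers of `ζ`. -/
def zp (x : ZMod 12) : Z4 :=
  match (show Fin 12 from x) with
  | 0 => (1, 0, 0, 0) | 1 => (0, 1, 0, 0) | 2 => (0, 0, 1, 0) | 3 => (0, 0, 0, 1)
  | 4 => (-1, 0, 1, 0) | 5 => (0, -1, 0, 1) | 6 => (-1, 0, 0, 0) | 7 => (0, -1, 0, 0)
  | 8 => (0, 0, -1, 0) | 9 => (0, 0, 0, -1) | 10 => (1, 0, -1, 0) | 11 => (0, 1, 0, -1)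

/-- A primitive twelfth root of unity. -/
noncomputable def zeta : ℂ := ((Real.sqrt 3 : ℝ) + Complex.I) / 2

theorem sqrt_three_sq : ((Real.sqrt 3 : ℝ) : ℂ) * (Real.sqrt 3 : ℝ) = 3 := by
  rw [← Complex.ofReal_mul, Real.mul_self_sqrt (by norm_num)]
  norm_num

theorem zeta_pow_three : zeta ^ 3 = Complex.I := by
  have h1 := sqrt_three_sq
  have h2 := Complex.I_mul_I
  rw [zeta]
  linear_combination ((Real.sqrt 3 : ℝ) / 8 + 3 * Complex.I / 8 : ℂ) * h1 +
    (3 * (Real.sqrt 3 : ℝ) / 8 + Complex.I / 8 : ℂ) * h2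

theorem zeta_twelve : zeta ^ 12 = 1 := by
  rw [show (12 : ℕ) = 3 * 4 from rfl, pow_mul, zeta_pow_three, Complex.I_pow_four]

theorem zeta_four : zeta ^ 4 = zeta ^ 2 - 1 := by
  have h1 := sqrt_three_sq
  have h2 := Complex.I_mul_I
  rw [pow_succ, zeta_pow_three, zeta]
  linear_combination (-1 / 4 : ℂ) * h1 + (1 / 4 : ℂ) * h2

/-- The complex number of some coordinates. -/
noncomputable def ev : Z4 →+ ℂ where
  toFun z := (z.1 : ℂ) + z.2.1 * zeta + z.2.2.1 * zeta ^ 2 + z.2.2.2 * zeta ^ 3
  map_zero' := by simp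
  map_add' x y := by push_cast [Prod.fst_add, Prod.snd_add]; ring

theorem ev_apply (z : Z4) :
    ev z = (z.1 : ℂ) + z.2.1 * zeta + z.2.2.1 * zeta ^ 2 + z.2.2.2 * zeta ^ 3 := rfl

theorem ev_zp (x : ZMod 12) : ev (zp x) = zeta ^ x.val := by
  have h4 := zeta_four
  have h3 := zeta_pow_three
  fin_cases x <;> simp [ev_apply, zp, ZMod.val]
  · linear_combination -h4
  · linear_combination -zeta * h4
  · linear_combination -(zeta ^ 2 + 1) * h4
  · linear_combination -(zeta ^ 3 + zeta) * h4
  · linear_combination -(zeta ^ 4 + zeta ^ 2) * h4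
  · linear_combination -(zeta ^ 5 + zeta ^ 3) * h4
  · linear_combination -(zeta ^ 6 + zeta ^ 4 - 1) * h4
  · linear_combination -(zeta ^ 7 + zeta ^ 5 - zeta) * h4

theorem ev_sqrt (a b : ℤ) : ev (a, 2 * b, 0, -b) = (a : ℂ) + b * (Real.sqrt 3 : ℝ) := by
  simp only [ev_apply, zeta_pow_three]
  simp only [zeta]
  push_cast
  ring

/-! ### Linear characters of subgroups containing the elementary group -/

/-- Membership in the subgroups of the complement. -/
def inS (i : Fin 13) (q : Q) : Bool := (subMask i).testBit (encQ q)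

/-- The exponent on the complement. -/
def nu (i : Fin 13) (q : Q) : ZMod 12 := (((nuTab i >>> (4 * encQ q)) % 16 : ℕ) : ZMod 12)

/-- The exponent on the elementary group. -/
def mu (i : Fin 13) (t : A) : ZMod 12 :=
  (muVec i).1 * (t.toAdd.1.val : ZMod 12) + (muVec i).2.1 * (t.toAdd.2.1.val : ZMod 12) +
    (muVec i).2.2 * (t.toAdd.2.2.val : ZMod 12)

theorem inS_spec : ∀ i, inS i 1 = true ∧ ∀ p q, inS i p = true → inS i q = true →
    inS i (p * q) = true ∧ nu i (p * q) = nu i p + nu i q := by decide +kernel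

theorem inS_inv : ∀ i q, inS i q = true → inS i q⁻¹ = true := by decide +kernel

theorem mu_add : ∀ i t u, mu i (t * u) = mu i t + mu i u := by decide +kernel

theorem mu_fix : ∀ i q, inS i q = true → ∀ t, mu i (actFun q t) = mu i t := by decide +kernel

theorem mu_nu_one : ∀ i, mu i 1 = 0 ∧ nu i 1 = 0 := by decide +kernel

/-- The subgroup. -/
def sub (i : Fin 13) : Subgroup M where
  carrier := {m | inS i m.right = true}
  one_mem' := (inS_spec i).1
  mul_mem' {x y} hx hy := by
    show inS i (x * y).right = true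
    rw [SemidirectProduct.mul_right]
    exact ((inS_spec i).2 _ _ hx hy).1
  inv_mem' {x} hx := by
    show inS i x⁻¹.right = true
    rw [SemidirectProduct.inv_right]
    exact inS_inv i _ hx

instance (i : Fin 13) : DecidablePred (· ∈ sub i) := fun m =>
  inferInstanceAs (Decidable (inS i m.right = true))

/-- `ζ` as a unit. -/
noncomputable def zetaUnit : ℂˣ :=
  Units.mkOfMulEqOne zeta (zeta ^ 11) (by rw [← pow_succ', zeta_twelve])

theorem zetaUnit_pow_twelve : zetaUnit ^ 12 = 1 := Units.ext (by simp [zetaUnit, zeta_twelve])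

/-- The linear character. -/
noncomputable def lam (i : Fin 13) : sub i →* ℂˣ where
  toFun k := zetaUnit ^ (mu i k.1.left + nu i k.1.right).val
  map_one' := by
    obtain ⟨h1, h2⟩ := mu_nu_one i
    simp [h1, h2]
  map_mul' x y := by
    have h : mu i (x.1 * y.1).left + nu i (x.1 * y.1).right =
        (mu i x.1.left + nu i x.1.right) + (mu i y.1.left + nu i y.1.right) := by
      rw [SemidirectProduct.mul_left, SemidirectProduct.mul_right,
        ((inS_spec i).2 _ _ x.2 y.2).2, mu_add]
      show mu i x.1.left + mu i (actFun x.1.right y.1.left) + _ = _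
      rw [mu_fix i _ x.2]
      ring
    show zetaUnit ^ _ = _
    rw [Subgroup.coe_mul, h, ← pow_add, ZMod.val_add, ← pow_eq_pow_mod _ zetaUnit_pow_twelve]

/-- The induced character. -/
noncomputable def psiF (i : Fin 13) : M → ℂ := indFun (sub i) fun k => (lam i k : ℂ)

theorem isCharacter_psiF (i : Fin 13) : IsCharacter M (psiF i) :=
  Char.isCharacter_indFun _ (Char.isCharacter_hom (lam i))

/-- One term of the induced character. -/
def term (i : Fin 13) (m : M) : Z4 :=
  if inS i m.right then zp (mu i m.left + nu i m.right) else 0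

/-- The induced character computed from a transversal. -/
def psiVal (i : Fin 13) (m : M) : Z4 :=
  ∑ r ∈ cosets i, term i ((SemidirectProduct.inr r : M)⁻¹ * m * SemidirectProduct.inr r)

theorem cosets_spec : ∀ i q, ((cosets i).filter fun r => inS i (r⁻¹ * q)).card = 1 := by
  decide +kernel

theorem extend_eq_term (i : Fin 13) (m : M) :
    extendByZero (sub i) (fun k => (lam i k : ℂ)) m = ev (term i m) := by
  by_cases h : inS i m.right = true
  · rw [Char.extendByZero_of_mem _ _ (show m ∈ sub i from h), term, if_pos h, ev_zp]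
    simp [lam, zetaUnit]
  · rw [Char.extendByZero_of_not_mem _ _ (show m ∉ sub i from h), term, if_neg h, map_zero]

theorem psiF_eq (i : Fin 13) (m : M) : psiF i m = ev (psiVal i m) := by
  classical
  set f : M → ℂ := fun x => extendByZero (sub i) (fun k => (lam i k : ℂ)) (x⁻¹ * m * x)
  have hf : ∀ (r : Q) (x : M), (SemidirectProduct.inr r : M)⁻¹ * x ∈ sub i →
      f x = f (SemidirectProduct.inr r) := by
    intro r x hx
    obtain ⟨k, hk, rfl⟩ : ∃ k ∈ sub i, x = SemidirectProduct.inr r * k :=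
      ⟨_, hx, (mul_inv_cancel_left _ _).symm⟩
    simp only [f, mul_inv_rev]
    set y := (SemidirectProduct.inr r : M)⁻¹ * m * SemidirectProduct.inr r
    rw [show k⁻¹ * (SemidirectProduct.inr r : M)⁻¹ * m * (SemidirectProduct.inr r * k) = k⁻¹ * y * k by
      simp only [y]; group]
    by_cases hy : y ∈ sub i
    · rw [Char.extendByZero_of_mem _ _ hy,
        Char.extendByZero_of_mem _ _ (mul_mem (mul_mem (inv_mem hk) hy) hk)]
      refine congrArg Units.val ?_
      rw [show (⟨k⁻¹ * y * k, mul_mem (mul_mem (inv_mem hk) hy) hk⟩ : sub i) =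
        ⟨k, hk⟩⁻¹ * ⟨y, hy⟩ * ⟨k, hk⟩ from rfl, map_mul, map_mul, map_inv, mul_right_comm,
        inv_mul_cancel, one_mul]
    · rw [Char.extendByZero_of_not_mem _ _ hy, Char.extendByZero_of_not_mem _ _ fun h => hy ?_]
      simpa [mul_assoc] using mul_mem (mul_mem hk h) (inv_mem hk)
  have hsum : ∑ x, f x = (Nat.card (sub i) : ℂ) * ∑ r ∈ cosets i, f (SemidirectProduct.inr r) := by
    have e : ∀ x : M, f x = ∑ r ∈ cosets i,
        if (SemidirectProduct.inr r : M)⁻¹ * x ∈ sub i then f (SemidirectProduct.inr r) else 0 := by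
      intro x
      rw [← Finset.sum_filter, Finset.sum_congr rfl fun r hr => (hf r x (Finset.mem_filter.1 hr).2).symm,
        Finset.sum_const]
      have : ((cosets i).filter fun r => (SemidirectProduct.inr r : M)⁻¹ * x ∈ sub i).card = 1 := by
        rw [← cosets_spec i x.right]
        congr 1
      rw [this, one_smul]
    rw [Finset.sum_congr rfl fun x _ => e x, Finset.sum_comm, Finset.mul_sum]
    refine Finset.sum_congr rfl fun r _ => ?_
    rw [← Finset.sum_filter, Finset.sum_const, nsmul_eq_mul, Nat.card_eq_fintype_card,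
      Fintype.card_subtype]
    congr 2
    refine Finset.card_bij (fun x _ => (SemidirectProduct.inr r : M)⁻¹ * x)
      (fun x hx => by simpa using hx) (fun x _ y _ e => mul_left_cancel e)
      fun k hk => ⟨SemidirectProduct.inr r * k, by simpa using hk, inv_mul_cancel_left _ _⟩
  rw [psiF, Char.indFun_apply, hsum, ← mul_assoc, inv_mul_cancel₀ Char.card_ne_zero, one_mul, psiVal,
    map_sum]
  exact Finset.sum_congr rfl fun r _ => extend_eq_term i _

/-! ### The five combinations -/

/-- The combination. -/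
noncomputable def Phi (k : Fin 5) : M → ℂ := ∑ i, (coefs k i : ℂ) • psiF i

theorem isClassFunction_psiF (i : Fin 13) : IsClassFunction M (psiF i) :=
  Char.isClassFunction_indFun _ _

theorem isClassFunction_Phi (k : Fin 5) : IsClassFunction M (Phi k) := by
  intro g h
  simp only [Phi, Finset.sum_apply, Pi.smul_apply, isClassFunction_psiF _ g h]

theorem vals_spec : ∀ k c, (∑ i, coefs k i • psiVal i (rep c)) =
    ((vals k c).1, 2 * (vals k c).2, 0, -(vals k c).2) := by decide +kernel

theorem Phi_apply (k : Fin 5) (m : M) :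
    Phi k m = ((vals k (cls m)).1 : ℂ) + (vals k (cls m)).2 * (Real.sqrt 3 : ℝ) := by
  rw [apply_eq_rep (isClassFunction_Phi k), ← ev_sqrt, ← vals_spec, map_sum, Phi, Finset.sum_apply]
  refine Finset.sum_congr rfl fun i _ => ?_
  rw [Pi.smul_apply, psiF_eq, map_zsmul, smul_eq_mul, zsmul_eq_mul]

theorem conj_Phi (k : Fin 5) (m : M) : conj (Phi k m) = Phi k m := by
  simp [Phi_apply]

theorem isGeneralized_Phi (k : Fin 5) : IsGeneralizedCharacter M (Phi k) := by
  refine ⟨∑ i, ((coefs k i).toNat : ℂ) • psiF i, ∑ i, ((-coefs k i).toNat : ℂ) • psiF i, ?_, ?_, ?_⟩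
  · exact Char.isCharacter_sum _ _ fun i _ => Char.isCharacter_natCast_smul _ (isCharacter_psiF i)
  · exact Char.isCharacter_sum _ _ fun i _ => Char.isCharacter_natCast_smul _ (isCharacter_psiF i)
  · rw [← Finset.sum_sub_distrib]
    refine Finset.sum_congr rfl fun i _ => ?_
    rw [← sub_smul]
    congr 1
    have := Int.toNat_sub_toNat_neg (coefs k i)
    exact_mod_cast this.symm

theorem jvals_spec : ∀ (j : Fin 4) c,
    psiVal (Fin.natAdd 9 j) (rep c) = (jvals j c, 0, 0, 0) := by decide +kernel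

end Cfsg.Agent.ThreeFullWreath
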