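import Cfsg.Agent.ThreeFullWreath.Cert
import Mathlib.Algebra.BigOperators.Field
import Mathlib.Algebra.Order.BigOperators.Ring.Finset
import Mathlib.Tactic.FieldSimp
import Mathlib.Data.Fintype.BigOperators
import Mathlib.Tactic.Linarith
import Mathlib.Data.Fin.VecNotation

/-!
# The arithmetic of the five generalized characters
-/

set_option autoImplicit false

namespace Cfsg.Agent.ThreeFullWreath

universe u

variable {ι : Type u} [Fintype ι]

/-- Their inner products. -/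
def gm : Fin 5 → Fin 5 → ℤ :=
  ![![4, 1, 1, 1, 0], ![1, 4, -1, 1, 0], ![1, -1, 3, -1, 1], ![1, 1, -1, 3, -1], ![0, 0, 1, -1, 2]]

/-- Their coefficients at the principal character. -/
def prin : Fin 5 → ℤ := ![1, 1, 0, 0, 0]

/-- The counts of pairs. -/
def tUU : Fin 4 → ℚ := ![3, 3 / 2, 3, 0]
/-- The counts of pairs. -/
def tUV : Fin 4 → ℚ := ![3, 3 / 2, 0, 0]
/-- The counts of pairs. -/
def tVV : Fin 4 → ℚ := ![6, 9 / 2, 0, 3]

/-- The data attached to a group with the configuration. -/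
structure Data (o : ι) (c : Fin 5 → ι → ℤ) (d U V : ι → ℚ) (L M N : ℚ) : Prop where
  gram : ∀ k l, ∑ x, c k x * c l x = gm k l
  co : ∀ k, c k o = prin k
  do_ : d o = 1
  uo : U o = 1
  vo : V o = 1
  d_ne : ∀ x, d x ≠ 0
  d_int : ∀ x, ∃ z : ℤ, d x = z
  lin : ∀ x, (d x = 1 ∨ d x = -1) → c 3 x = 0
  L_ne : L ≠ 0
  M_ne : M ≠ 0
  hN : N * N = L * M
  sd : ∀ k, ∑ x, (c k x : ℚ) * d x = 0
  su : ∀ k, ∑ x, (c k x : ℚ) * U x = 0
  sv : ∀ k, ∑ x, (c k x : ℚ) * V x = 0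
  suu : ∀ k : Fin 4, ∑ x, (c k.castSucc x : ℚ) * (U x * U x / d x) = tUU k * L
  suv : ∀ k : Fin 4, ∑ x, (c k.castSucc x : ℚ) * (U x * V x / d x) = tUV k * N
  svv : ∀ k : Fin 4, ∑ x, (c k.castSucc x : ℚ) * (V x * V x / d x) = tVV k * M

/-- A vector with three entries `±1` apart from a given position. -/
structure Supp3 (o : ι) (f : ι → ℤ) (a b e : ι) : Prop where
  ao : a ≠ o
  bo : b ≠ o
  eo : e ≠ o
  ab : a ≠ b
  ae : a ≠ e
  be : b ≠ e
  fa : f a = 1 ∨ f a = -1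
  fb : f b = 1 ∨ f b = -1
  fe : f e = 1 ∨ f e = -1
  off : ∀ x, x ≠ o → x ≠ a → x ≠ b → x ≠ e → f x = 0

theorem pm_of_sq_le {z : ℤ} (h : z ^ 2 ≤ 3) (h0 : z ≠ 0) : z = 1 ∨ z = -1 := by
  have h1 : z ≤ 1 := by nlinarith
  have h2 : -1 ≤ z := by nlinarith
  omega

theorem exists_supp3 (o : ι) (f : ι → ℤ) (h : ∑ x, f x * f x = f o * f o + 3) :
    ∃ a b e, Supp3 o f a b e := by
  classical
  set S := Finset.univ.filter fun x => x ≠ o ∧ f x ≠ 0 with hS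
  have h3 : ∑ x ∈ S, f x ^ 2 = 3 := by
    rw [hS, ← Finset.sum_filter_add_sum_filter_not Finset.univ (fun x => x ≠ o ∧ f x ≠ 0)] at *
    have e : ∑ x ∈ Finset.univ.filter (fun x => ¬(x ≠ o ∧ f x ≠ 0)), f x * f x = f o * f o := by
      rw [Finset.sum_eq_single o]
      · intro x hx hxo
        have := (Finset.mem_filter.1 hx).2
        simp only [not_and, ne_eq, not_not] at this
        simp [this hxo]
      · intro ho
        simp at ho
    simp only [sq]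
    linarith
  have h1 : ∀ x ∈ S, f x = 1 ∨ f x = -1 := fun x hx => by
    refine pm_of_sq_le ?_ (Finset.mem_filter.1 hx).2.2
    rw [← h3]
    exact Finset.single_le_sum (f := fun x => f x ^ 2) (fun y _ => sq_nonneg _) hx
  have hc : S.card = 3 := by
    have : ∑ x ∈ S, f x ^ 2 = ∑ x ∈ S, (1 : ℤ) := Finset.sum_congr rfl fun x hx => by
      rcases h1 x hx with e | e <;> simp [e]
    rw [this, Finset.sum_const, nsmul_eq_mul, mul_one] at h3
    exact_mod_cast h3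
  obtain ⟨a, b, e, hab, hae, hbe, heq⟩ := Finset.card_eq_three.1 hc
  have hm : ∀ x, x ∈ S ↔ x = a ∨ x = b ∨ x = e := fun x => by simp [heq]
  have hmem : ∀ x ∈ S, x ≠ o := fun x hx => (Finset.mem_filter.1 hx).2.1
  refine ⟨a, b, e, hmem a ((hm a).2 (by simp)), hmem b ((hm b).2 (by simp)),
    hmem e ((hm e).2 (by simp)), hab, hae, hbe, h1 a ((hm a).2 (by simp)), h1 b ((hm b).2 (by simp)),
    h1 e ((hm e).2 (by simp)), fun x hxo hxa hxb hxe => ?_⟩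
  by_contra hx
  rcases (hm x).1 (Finset.mem_filter.2 ⟨Finset.mem_univ _, hxo, hx⟩) with h | h | h
  · exact hxa h
  · exact hxb h
  · exact hxe h

theorem Supp3.swap12 {o : ι} {f : ι → ℤ} {a b e : ι} (h : Supp3 o f a b e) : Supp3 o f b a e :=
  ⟨h.bo, h.ao, h.eo, h.ab.symm, h.be, h.ae, h.fb, h.fa, h.fe, fun x h0 h1 h2 h3 => h.off x h0 h2 h1 h3⟩

theorem Supp3.swap23 {o : ι} {f : ι → ℤ} {a b e : ι} (h : Supp3 o f a b e) : Supp3 o f a e b :=
  ⟨h.ao, h.eo, h.bo, h.ae, h.ab, h.be.symm, h.fa, h.fe, h.fb, fun x h0 h1 h2 h3 => h.off x h0 h1 h3 h2⟩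

theorem Supp3.rotate {o : ι} {f : ι → ℤ} {a b e x : ι} (h : Supp3 o f a b e) (hxo : x ≠ o)
    (hx : f x ≠ 0) : ∃ y z, Supp3 o f x y z := by
  by_cases h1 : x = a
  · exact ⟨b, e, h1 ▸ h⟩
  by_cases h2 : x = b
  · exact ⟨a, e, h2 ▸ h.swap12⟩
  by_cases h3 : x = e
  · exact ⟨a, b, h3 ▸ h.swap23.swap12⟩
  exact absurd (h.off x hxo h1 h2 h3) hx

theorem Supp3.rotate2 {o : ι} {f : ι → ℤ} {a b e x y : ι} (h : Supp3 o f a b e) (hxo : x ≠ o)
    (hx : f x ≠ 0) (hyo : y ≠ o) (hy : f y ≠ 0) (hxy : x ≠ y) : ∃ z, Supp3 o f x y z := by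
  obtain ⟨u, w, hu⟩ := h.rotate hxo hx
  by_cases h1 : y = u
  · exact ⟨w, h1 ▸ hu⟩
  by_cases h2 : y = w
  · exact ⟨u, h2 ▸ hu.swap23⟩
  exact absurd (hu.off y hyo hxy.symm h1 h2) hy

theorem Supp3.sum {R : Type*} [CommRing R] {o : ι} {f : ι → ℤ} {a b e : ι} (h : Supp3 o f a b e)
    (g : ι → R) :
    ∑ x, (f x : R) * g x = (f o : R) * g o + (f a : R) * g a + (f b : R) * g b + (f e : R) * g e := by
  classical
  rw [← Finset.sum_subset (Finset.subset_univ ({o, a, b, e} : Finset ι))]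
  · rw [Finset.sum_insert (by simp [h.ao.symm, h.bo.symm, h.eo.symm]),
      Finset.sum_insert (by simp [h.ab, h.ae]), Finset.sum_insert (by simp [h.be]),
      Finset.sum_singleton]
    ring
  · intro x _ hx
    simp only [Finset.mem_insert, Finset.mem_singleton, not_or] at hx
    simp [h.off x hx.1 hx.2.1 hx.2.2.1 hx.2.2.2]

/-- A quadratic form on a line pair. -/
theorem prop3 {D₁ D₂ D₃ u₁ u₂ u₃ : ℚ} (n1 : D₁ ≠ 0) (n2 : D₂ ≠ 0) (n3 : D₃ ≠ 0)
    (hD : D₁ + D₂ + D₃ = 0) (hu : u₁ + u₂ + u₃ = 0)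
    (hq : u₁ * u₁ / D₁ + u₂ * u₂ / D₂ + u₃ * u₃ / D₃ = 0) :
    u₂ = u₁ / D₁ * D₂ ∧ u₃ = u₁ / D₁ * D₃ := by
  have hd : D₃ = -(D₁ + D₂) := by linarith
  have hu3 : u₃ = -(u₁ + u₂) := by linarith
  subst hd hu3
  have n3' : D₁ + D₂ ≠ 0 := fun e => n3 (by linarith)
  have key : (u₂ * D₁ - u₁ * D₂) ^ 2 = 0 := by
    field_simp at hq
    linear_combination hq
  have e : u₂ * D₁ = u₁ * D₂ := by
    have := pow_eq_zero_iff (two_ne_zero) |>.1 key
    linarith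
  refine ⟨?_, ?_⟩
  · field_simp; linarith
  · field_simp; linear_combination -e

/-- The unit of a sign. -/
theorem sq_sign {z : ℤ} (h : z = 1 ∨ z = -1) : (z : ℚ) * z = 1 := by
  rcases h with e | e <;> simp [e]

end Cfsg.Agent.ThreeFullWreath
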