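import Cfsg.Agent.ThreeFullWreath.Chars
import Cfsg.Agent.TISpecial.Basic
import Cfsg.Prelude.Def_Solvable
import Mathlib.GroupTheory.Sylow

/-!
# Local properties of the configuration
-/

set_option autoImplicit false

namespace Cfsg.Agent.ThreeFullWreath

open Cfsg Cfsg.Agent Subgroup

universe u

theorem Q_orders : ∀ q : Q, q ^ 3 = 1 ∨ q ^ 2 = 1 ∨ q ^ 4 = 1 := by decide +kernel

theorem Q_no_core : ∀ q : Q, q ^ 3 = 1 → q ≠ 1 → ∃ r : Q, (q * (r * q * r⁻¹)) ^ 3 ≠ 1 := by
  decide +kernel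

theorem pow_three_of_right : ∀ m : M, m.right = 1 → m ^ 3 = 1 := by decide +kernel

/-- The elementary group is the largest normal `3`-subgroup. -/
theorem mem_pCore {H : Type u} [Group H] (e : M ≃* H) (h : H) :
    h ∈ pCore 3 H ↔ (e.symm h).right = 1 := by
  let ρ : H →* Q := (SemidirectProduct.rightHom : M →* Q).comp e.symm.toMonoidHom
  have hρ : ∀ x, ρ x = (e.symm x).right := fun x => rfl
  rw [← hρ]
  refine ⟨fun hh => ?_, fun hh => ?_⟩
  · refine (sSup_le ?_ : pCore 3 H ≤ ρ.ker) hh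
    rintro N ⟨hN, h3⟩ n hn
    have key : ∀ x ∈ N, (ρ x) ^ 3 = 1 := by
      intro x hx
      obtain ⟨k, hk⟩ := h3 ⟨x, hx⟩
      have hk' : (ρ x) ^ 3 ^ k = 1 := by
        rw [← map_pow, show x ^ 3 ^ k = 1 from congrArg Subtype.val hk, map_one]
      rcases Q_orders (ρ x) with h1 | h1 | h1
      · exact h1
      all_goals
        have h2 := (pow_gcd_eq_one (a := ρ x)).2 ⟨hk', h1⟩
        rw [Nat.Coprime.gcd_eq_one (Nat.Coprime.pow_left k (by norm_num)), pow_one] at h2
        rw [h2, one_pow]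
    by_contra hne
    obtain ⟨r, hr⟩ := Q_no_core (ρ n) (key n hn) hne
    obtain ⟨s, rfl⟩ : ∃ s, ρ s = r :=
      ⟨e (SemidirectProduct.inr r), by rw [hρ, e.symm_apply_apply, SemidirectProduct.right_inr]⟩
    exact hr (by
      have := key _ (N.mul_mem hn (hN.conj_mem n hn s))
      simpa using this)
  · refine (le_sSup ⟨MonoidHom.normal_ker ρ, ?_⟩ : ρ.ker ≤ pCore 3 H) hh
    rintro ⟨x, hx⟩
    refine ⟨1, Subtype.ext (e.symm.injective ?_)⟩
    show e.symm (x ^ 3 ^ 1) = e.symm 1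
    rw [pow_one, map_pow, map_one]
    exact pow_three_of_right _ hx

/-- The configuration. -/
structure Cfg {G : Type u} [Group G] (φ : M →* G) : Prop where
  inj : Function.Injective φ
  loc : ∀ m : M, m.right = 1 → m ≠ 1 → centralizer ({φ m} : Set G) ≤ φ.range
  closed : ∀ (x : G) (m m' : M), m.right = 1 → x * φ m * x⁻¹ = φ m' → m'.right = 1

theorem card_comm : ∀ m : M, m.right = 1 → m ≠ 1 →
    (Finset.univ.filter fun k => k * m = m * k).card =
        (if cls m = 1 then 108 else if cls m = 3 then 54 else 81) ∧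
      (cls m = 1 ∨ cls m = 3 ∨ cls m = 8) := by decide +kernel

theorem special_pow : ∀ c : Fin 14, ∀ k : Fin 5, vals k c ≠ (0, 0) →
    c = 1 ∨ c = 3 ∨ c = 5 ∨ c = 7 ∨ c = 8 ∨ c = 9 ∨ c = 10 ∨ c = 12 ∨ c = 13 := by decide +kernel

theorem special_right : ∀ m : M, cls m = 1 ∨ cls m = 3 ∨ cls m = 5 ∨ cls m = 7 ∨ cls m = 8 ∨
    cls m = 9 ∨ cls m = 10 ∨ cls m = 12 ∨ cls m = 13 →
    ∃ e : Fin 5, (m ^ (e : ℕ)).right = 1 ∧ m ^ (e : ℕ) ≠ 1 := by decide +kernel

/-- A translation of the second kind, centralizing `rep 6`. -/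
def gj : M := SemidirectProduct.inl (Multiplicative.ofAdd (0, 1, 1))

theorem model_facts : ge * rep 2 = rep 2 * ge ∧ gj * rep 6 = rep 6 * gj ∧ cls ge = 1 ∧ cls gj = 3 ∧
    cls gj⁻¹ = 3 ∧ gj.right = 1 ∧ ge.right = 1 ∧ gj ≠ 1 ∧ ge ≠ 1 ∧
    (Finset.univ.filter fun k => k * rep 6 = rep 6 * k).card = 12 := by
  refine ⟨?_, ?_, ?_, ?_, ?_, ?_, ?_, ?_, ?_, ?_⟩ <;> decide +kernel

theorem sq_cls : ∀ m : M, m * m = 1 → cls m = 0 ∨ cls m = 2 ∨ cls m = 6 := by decide +kernel

theorem rep_sq : rep 2 * rep 2 = 1 ∧ rep 6 * rep 6 = 1 ∧ rep 2 ≠ 1 ∧ rep 6 ≠ 1 := by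
  refine ⟨?_, ?_, ?_, ?_⟩ <;> decide +kernel

variable {G : Type u} [Group G] {φ : M →* G}

theorem Cfg.card_centralizer (h : Cfg φ) {m : M} (h1 : m.right = 1) (h2 : m ≠ 1) :
    Nat.card (centralizer ({φ m} : Set G)) = (Finset.univ.filter fun k => k * m = m * k).card := by
  rw [← Fintype.card_subtype, ← Nat.card_eq_fintype_card]
  refine (Nat.card_congr (Equiv.ofBijective
    (fun k => (⟨φ k.1, mem_centralizer_singleton_iff.2 (by rw [← map_mul, k.2, map_mul])⟩ :
      centralizer ({φ m} : Set G))) ⟨fun a b e => Subtype.ext (h.inj (congrArg Subtype.val e)), ?_⟩)).symm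
  rintro ⟨y, hy⟩
  obtain ⟨k, rfl⟩ := h.loc m h1 h2 hy
  exact ⟨⟨k, h.inj (by rw [map_mul, map_mul]; exact mem_centralizer_singleton_iff.1 hy)⟩, rfl⟩

/-- Fusion of the elementary group is inside the image. -/
theorem Cfg.fus (h : Cfg φ) {x : G} {m m' : M} (h1 : m.right = 1) (h2 : m ≠ 1)
    (he : x * φ m * x⁻¹ = φ m') : x ∈ φ.range := by
  have h1' := h.closed x m m' h1 he
  have h2' : m' ≠ 1 := fun e => h2 (h.inj (by
    rw [map_one]
    rw [e, map_one] at he
    exact conj_eq_one_iff.1 he))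
  have hc : Nat.card (centralizer ({φ m} : Set G)) = Nat.card (centralizer ({φ m'} : Set G)) := by
    refine Nat.card_congr ((MulAut.conj x).toEquiv.subtypeEquiv fun y => ?_)
    simp only [mem_centralizer_singleton_iff, MulEquiv.toEquiv_eq_coe, EquivLike.coe_coe]
    rw [← he, ← MulAut.conj_apply, ← map_mul, ← map_mul]
    exact ((MulAut.conj x).injective.eq_iff).symm
  rw [h.card_centralizer h1 h2, h.card_centralizer h1' h2', (card_comm m h1 h2).1,
    (card_comm m' h1' h2').1] at hc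
  have hcls : cls m = cls m' := by
    rcases (card_comm m h1 h2).2 with e | e | e <;> rcases (card_comm m' h1' h2').2 with e' | e' | e' <;>
      rw [e, e'] <;> rw [e, e'] at hc <;> exact absurd hc (by decide)
  obtain ⟨k, hk⟩ := isConj_iff.1 (isConj_iff_cls.2 hcls)
  have : (φ k)⁻¹ * x ∈ φ.range := h.loc m h1 h2 (mem_centralizer_singleton_iff.2 (by
    have e : x * φ m * x⁻¹ = φ k * φ m * (φ k)⁻¹ := by
      rw [he, ← hk, map_mul, map_mul, map_inv]
    calc (φ k)⁻¹ * x * φ m = (φ k)⁻¹ * (x * φ m * x⁻¹) * x := by group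
      _ = φ m * ((φ k)⁻¹ * x) := by rw [e]; group))
  simpa using mul_mem (show φ k ∈ φ.range from ⟨k, rfl⟩) this

/-- The combinations have controlled fusion. -/
theorem Cfg.fused (h : Cfg φ) (k : Fin 5) : TISpecial.Fused φ (Phi k) := by
  intro x m m' hm he
  obtain ⟨e, h1, h2⟩ := special_right m (special_pow (cls m) k fun hv => hm (by
    rw [Phi_apply, hv]; simp))
  exact h.fus h1 h2 (by rw [map_pow, map_pow, ← conj_pow, he] : _ = φ (m' ^ (e : ℕ)))

theorem Cfg.not_isConj [Finite G] (h : Cfg φ) : ¬ IsConj (φ (rep 2)) (φ (rep 6)) := by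
  classical
  haveI : Fact (Nat.Prime 3) := ⟨Nat.prime_three⟩
  obtain ⟨c2, c6, k2, k6, k6', r6, r2, n6, n2, hc⟩ := model_facts
  intro hconj
  obtain ⟨g, hg⟩ := isConj_iff.1 hconj
  set C := centralizer ({φ (rep 6)} : Set G)
  have hbC : φ gj ∈ C := mem_centralizer_singleton_iff.2 (by rw [← map_mul, c6, map_mul])
  set b : C := ⟨φ gj, hbC⟩
  have ob : orderOf b = 3 := by
    refine orderOf_eq_prime (Subtype.ext ?_) fun e => n6 (h.inj ?_)
    · show φ gj ^ 3 = 1
      rw [← map_pow, pow_three_of_right _ r6, map_one]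
    · rw [map_one]; exact congrArg Subtype.val e
  have hB : Nat.card (zpowers b) = 3 := by rw [Nat.card_zpowers, ob]
  have h9 : ¬ 9 ∣ Nat.card C := by
    intro h9
    obtain ⟨K, hK, hBK⟩ := Sylow.exists_subgroup_card_pow_succ (p := 3) (n := 1) h9
      (H := zpowers b) (by rw [pow_one]; exact hB)
    have hcomm : ∀ y : K, y * ⟨b, hBK (mem_zpowers b)⟩ = ⟨b, hBK (mem_zpowers b)⟩ * y := fun y => by
      letI := IsPGroup.commGroupOfCardEqPrimeSq (p := 3) hK
      exact mul_comm _ _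
    set L := (K.map C.subtype).comap φ
    have hKr : K.map C.subtype ≤ φ.range := by
      rintro _ ⟨y, hy, rfl⟩
      exact h.loc gj r6 n6 (mem_centralizer_singleton_iff.2
        (congrArg (fun z : K => ((z : C) : G)) (hcomm ⟨y, hy⟩)))
    have hL : Nat.card L = 9 := by
      rw [← card_map_of_injective (K := L) (f := φ) h.inj, map_comap_eq_self hKr,
        card_map_of_injective C.subtype_injective, hK]
      norm_num
    have hd : Nat.card L ∣ Nat.card (centralizer ({rep 6} : Set M)) := card_dvd_of_le fun m hm => by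
      obtain ⟨y, -, hy⟩ := hm
      refine mem_centralizer_singleton_iff.2 (h.inj ?_)
      rw [map_mul, map_mul, ← hy]
      exact mem_centralizer_singleton_iff.1 y.2
    rw [hL] at hd
    have : Nat.card (centralizer ({rep 6} : Set M)) = 12 := by
      rw [← hc, ← Fintype.card_subtype, ← Nat.card_eq_fintype_card]
      exact Nat.card_congr (Equiv.subtypeEquivRight fun k => mem_centralizer_singleton_iff)
    rw [this] at hd
    norm_num at hd
  have haC : g * φ ge * g⁻¹ ∈ C := mem_centralizer_singleton_iff.2 (by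
    rw [← hg, ← MulAut.conj_apply, ← MulAut.conj_apply, ← map_mul, ← map_mul, ← map_mul, c2, map_mul])
  set a : C := ⟨_, haC⟩
  have oa : orderOf a = 3 := by
    refine orderOf_eq_prime (Subtype.ext ?_) fun e => n2 (h.inj ?_)
    · show (g * φ ge * g⁻¹) ^ 3 = 1
      rw [conj_pow, ← map_pow, pow_three_of_right _ r2]; simp
    · rw [map_one]; exact conj_eq_one_iff.1 (congrArg Subtype.val e)
  have hcard : 3 ^ (Nat.card C).factorization 3 = 3 := by
    have hC0 : Nat.card C ≠ 0 := Nat.card_pos.ne'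
    have h1 : 1 ≤ (Nat.card C).factorization 3 :=
      (Nat.prime_three.dvd_iff_one_le_factorization hC0).1 (hB ▸ card_subgroup_dvd_card _)
    have h2 : ¬ 2 ≤ (Nat.card C).factorization 3 := fun e =>
      h9 ((show 9 ∣ 3 ^ (Nat.card C).factorization 3 from pow_dvd_pow 3 e).trans (Nat.ordProj_dvd _ _))
    rw [show (Nat.card C).factorization 3 = 1 by omega, pow_one]
  obtain ⟨PA, hPA⟩ : ∃ P : Sylow 3 C, (P : Subgroup C) = zpowers a :=
    ⟨Sylow.ofCard (zpowers a) (by rw [hcard, Nat.card_zpowers, oa]), rfl⟩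
  obtain ⟨PB, hPB⟩ : ∃ P : Sylow 3 C, (P : Subgroup C) = zpowers b :=
    ⟨Sylow.ofCard (zpowers b) (by rw [hcard, hB]), rfl⟩
  obtain ⟨c, hcP⟩ := MulAction.exists_smul_eq C PA PB
  have hab : c * a * c⁻¹ ∈ zpowers b := by
    rw [← hPB, ← hcP]
    rw [Sylow.coe_subgroup_smul, hPA]
    exact ⟨a, mem_zpowers a, rfl⟩
  obtain ⟨i, hi⟩ := mem_zpowers_iff.1 hab
  have hi' : ((c : G) * g) * φ ge * ((c : G) * g)⁻¹ = φ (gj ^ i) := by
    rw [map_zpow]
    have := congrArg (fun z : C => (z : G)) hi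
    simp only [Subgroup.coe_zpow, Subgroup.coe_mul, Subgroup.coe_inv, a, b] at this
    rw [this]; group
  obtain ⟨k, hk⟩ := h.fus r2 n2 hi'
  have hcj : IsConj ge (gj ^ i) := isConj_iff.2 ⟨k, h.inj (by
    rw [map_mul, map_mul, map_inv, hk]; exact hi')⟩
  have h3 : gj ^ (3 : ℤ) = 1 := by exact_mod_cast pow_three_of_right _ r6
  rw [← Int.emod_add_mul_ediv i 3, zpow_add, zpow_mul, h3, one_zpow, mul_one, isConj_iff_cls, k2] at hcj
  rcases (show i % 3 = 0 ∨ i % 3 = 1 ∨ i % 3 = 2 by omega) with e | e | e <;> rw [e] at hcj <;>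
    revert hcj <;> decide +kernel

theorem Cfg.cls_iff [Finite G] (h : Cfg φ) (m : M) :
    (cls m = 2 ↔ IsConj (φ (rep 2)) (φ m)) ∧ (cls m = 6 ↔ IsConj (φ (rep 6)) (φ m)) := by
  obtain ⟨s2, s6, n2, n6⟩ := rep_sq
  have fwd : ∀ c, cls m = c → IsConj (φ (rep c)) (φ m) := fun c hc =>
    φ.map_isConj (isConj_iff_cls.2 (by rw [cls_rep, hc]))
  have bwd : ∀ c, rep c * rep c = 1 → rep c ≠ 1 → IsConj (φ (rep c)) (φ m) →
      cls m = 2 ∨ cls m = 6 := fun c hs hn hcj => by
    obtain ⟨g, hg⟩ := isConj_iff.1 hcj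
    have hsq : m * m = 1 := h.inj (by
      rw [map_mul, ← hg, map_one, show g * φ (rep c) * g⁻¹ * (g * φ (rep c) * g⁻¹) =
        g * (φ (rep c) * φ (rep c)) * g⁻¹ by group, ← map_mul, hs]; simp)
    rcases sq_cls m hsq with e | e
    · exfalso
      have : m = 1 := by
        have := cls_spec m
        rw [e, show rep 0 = 1 by decide +kernel] at this
        simpa using this.symm
      rw [this, map_one] at hg
      exact hn (h.inj (by rw [map_one]; exact conj_eq_one_iff.1 hg))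
    · exact e
  refine ⟨⟨fwd 2, fun e => ?_⟩, ⟨fwd 6, fun e => ?_⟩⟩
  · exact (bwd 2 s2 n2 e).resolve_right fun e' => h.not_isConj (e.trans (fwd 6 e').symm)
  · exact (bwd 6 s6 n6 e).resolve_left fun e' => h.not_isConj ((fwd 2 e').trans e.symm)

end Cfsg.Agent.ThreeFullWreath
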