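import Cfsg.Agent.ThreeFullWreath.Arith
import Cfsg.Agent.ThreeFullWreath.Local
import Cfsg.Agent.ThreeKlein.Six
import Cfsg.Agent.Char.Linear

/-!
# The numerical data of the configuration
-/

set_option autoImplicit false

namespace Cfsg.Agent.ThreeFullWreath

open Cfsg Cfsg.Agent Subgroup
open scoped ComplexConjugate

universe u

theorem sum_zero_facts : ∀ k : Fin 5,
    (∑ c, (size c : ℤ) * (vals k c).1) = 648 * prin k ∧ (∑ c, (size c : ℤ) * (vals k c).2) = 0 := by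
  decide +kernel

theorem gram_facts : ∀ k l : Fin 5,
    (∑ c, (size c : ℤ) * ((vals k c).1 * (vals l c).1 + 3 * ((vals k c).2 * (vals l c).2))) = 648 * gm k l ∧
    (∑ c, (size c : ℤ) * ((vals k c).1 * (vals l c).2 + (vals k c).2 * (vals l c).1)) = 0 := by
  decide +kernel

theorem classInner_Phi (k l : Fin 5) : classInner (Phi k) (Phi l) = gm k l := by
  obtain ⟨h1, h2⟩ := gram_facts k l
  have h1' : ∑ c, (size c : ℂ) * ((vals k c).1 * (vals l c).1 + 3 * ((vals k c).2 * (vals l c).2)) =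
      648 * (gm k l : ℂ) := by exact_mod_cast h1
  have h2' : ∑ c, (size c : ℂ) * ((vals k c).1 * (vals l c).2 + (vals k c).2 * (vals l c).1) = 0 := by
    exact_mod_cast h2
  simp only [classInner, conj_Phi]
  simp only [Phi_apply, card_M]
  rw [sum_cls (fun c => (((vals k c).1 : ℂ) + (vals k c).2 * (Real.sqrt 3 : ℝ)) *
    ((vals l c).1 + (vals l c).2 * (Real.sqrt 3 : ℝ)))]
  have e : ∀ c, (size c : ℂ) * ((((vals k c).1 : ℂ) + (vals k c).2 * (Real.sqrt 3 : ℝ)) *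
      ((vals l c).1 + (vals l c).2 * (Real.sqrt 3 : ℝ))) =
      (size c : ℂ) * ((vals k c).1 * (vals l c).1 + 3 * ((vals k c).2 * (vals l c).2)) +
      (size c : ℂ) * ((vals k c).1 * (vals l c).2 + (vals k c).2 * (vals l c).1) * (Real.sqrt 3 : ℝ) :=
    fun c => by linear_combination ((size c : ℂ) * (vals k c).2 * (vals l c).2) * sqrt_three_sq
  rw [Finset.sum_congr rfl fun c _ => e c, Finset.sum_add_distrib, ← Finset.sum_mul, h1', h2']
  norm_num
  ring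

theorem classInner_Phi_one (k : Fin 5) : classInner (Phi k) (fun _ : M => (1 : ℂ)) = prin k := by
  obtain ⟨h1, h2⟩ := sum_zero_facts k
  have h1' : ∑ c, (size c : ℂ) * (vals k c).1 = 648 * (prin k : ℂ) := by exact_mod_cast h1
  have h2' : ∑ c, (size c : ℂ) * (vals k c).2 = 0 := by exact_mod_cast h2
  simp only [classInner, map_one, mul_one, Phi_apply, card_M]
  rw [sum_cls (fun c => ((vals k c).1 : ℂ) + (vals k c).2 * (Real.sqrt 3 : ℝ))]
  simp only [mul_add, ← mul_assoc, Finset.sum_add_distrib, ← Finset.sum_mul]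
  rw [h1', h2']
  norm_num
  ring

theorem hom_facts : gd * ge * gd⁻¹ = ge⁻¹ ∧ ge ^ 3 = 1 ∧
    gd * (gc * gd * gc⁻¹) = gc * gc * gd * (gc * gc)⁻¹ := by decide +kernel

theorem signs_word : ∀ v : V4, ∃ a b : Fin 2,
    gd ^ (a : ℕ) * (gc * gd * gc⁻¹) ^ (b : ℕ) = SemidirectProduct.inr (SemidirectProduct.inl v) := by
  decide +kernel

theorem hom_apply (f : M →* ℂˣ) (m : M) :
    f m = f (SemidirectProduct.inr (SemidirectProduct.inr m.right.right)) := by
  obtain ⟨h1, h2, h3⟩ := hom_facts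
  have e1 : f ge = 1 := by
    have a1 := congrArg f h1
    rw [map_mul, map_mul, map_inv, map_inv, mul_inv_cancel_comm] at a1
    have a2 := congrArg f h2
    rw [map_pow, map_one, pow_succ, sq] at a2
    have a3 : f ge * f ge = 1 := mul_eq_one_iff_eq_inv.2 a1
    rw [a3, one_mul] at a2
    exact a2
  have e2 : f gd = 1 := by
    have a1 := congrArg f h3
    simp only [map_mul, map_inv, mul_inv_cancel_comm] at a1
    exact mul_eq_left.1 a1
  conv_lhs => rw [← SemidirectProduct.inl_left_mul_inr_right m,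
    ← SemidirectProduct.inl_left_mul_inr_right m.right, map_mul SemidirectProduct.inr]
  obtain ⟨a, b, hab⟩ := signs_word m.right.left
  rw [← wordA_eq, ← hab]
  simp [wordA, e1, e2]

theorem lin_facts : ((rep 5).right.right = 1 ∧ (rep 1).right.right = 1) ∧
    ((rep 3).right.right = 1 ∧ (rep 8).right.right = 1) ∧ (rep 9).right.right = (rep 10).right.right := by
  refine ⟨⟨?_, ?_⟩, ⟨?_, ?_⟩, ?_⟩ <;> decide +kernel

theorem classInner_lin (f : M →* ℂˣ) : classInner (Phi 3) (fun m => (f m : ℂ)) = 0 := by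
  obtain ⟨⟨r5, r1⟩, ⟨r3, r8⟩, r9⟩ := lin_facts
  have hf : ∀ c, c = 1 ∨ c = 3 ∨ c = 5 ∨ c = 8 → f (rep c) = 1 := by
    rintro c (rfl | rfl | rfl | rfl) <;> rw [hom_apply] <;> simp [r1, r3, r5, r8]
  have h9 : f (rep 9) = f (rep 10) := by rw [hom_apply f (rep 9), hom_apply f (rep 10), r9]
  have hcl : ∀ m, f m = f (rep (cls m)) := fun m => by
    conv_lhs => rw [← cls_spec m, map_mul, map_mul, map_inv, mul_inv_cancel_comm]
  simp only [classInner, Phi_apply]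
  rw [Finset.sum_congr rfl fun m _ => by rw [hcl m]]
  rw [sum_cls (fun c => (((vals 3 c).1 : ℂ) + (vals 3 c).2 * (Real.sqrt 3 : ℝ)) * conj (f (rep c) : ℂ))]
  simp [Fin.sum_univ_succ, vals, size, hf, h9]
  ring

/-- The counts of pairs of involutions by product. -/
def pairs (k : Fin 5) (i j : Fin 14) : ℤ × ℤ :=
  ∑ m ∈ Finset.univ.filter (fun m => cls m = i),
    ∑ m' ∈ Finset.univ.filter (fun m => cls m = j), vals k (cls (m * m'))

theorem pairs_eq : pairs 0 2 2 = (1944, 0) ∧ pairs 1 2 2 = (972, 0) ∧ pairs 2 2 2 = (1944, 0) ∧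
    pairs 3 2 2 = (0, 0) := by
  refine ⟨?_, ?_, ?_, ?_⟩ <;> decide +kernel

theorem pairs_eq' : pairs 0 2 6 = (1944, 0) ∧ pairs 1 2 6 = (972, 0) ∧ pairs 2 2 6 = (0, 0) ∧
    pairs 3 2 6 = (0, 0) := by
  refine ⟨?_, ?_, ?_, ?_⟩ <;> decide +kernel

theorem pairs_eq'' : pairs 0 6 6 = (3888, 0) ∧ pairs 1 6 6 = (2916, 0) ∧ pairs 2 6 6 = (0, 0) ∧
    pairs 3 6 6 = (1944, 0) := by
  refine ⟨?_, ?_, ?_, ?_⟩ <;> decide +kernel

theorem vals_zero : ∀ k, vals k 2 = (0, 0) ∧ vals k 6 = (0, 0) ∧ vals k (cls 1) = (0, 0) := by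
  decide +kernel

theorem Phi_pairs (k : Fin 5) (i j : Fin 14) :
    ∑ m : M, ∑ m' : M, (if decide (cls m = i) && decide (cls m' = j) then Phi k (m * m') else 0) =
      ((pairs k i j).1 : ℂ) + (pairs k i j).2 * (Real.sqrt 3 : ℝ) := by
  rw [pairs, Finset.sum_filter, Prod.fst_sum, Prod.snd_sum]
  simp only [Prod.fst_sum, Prod.snd_sum, Int.cast_sum, Finset.sum_mul, ← Finset.sum_add_distrib]
  refine Finset.sum_congr rfl fun m _ => ?_
  by_cases hi : cls m = i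
  · simp only [hi, decide_true, Bool.true_and, if_true, decide_eq_true_eq, Prod.fst_sum, Prod.snd_sum,
      Int.cast_sum, Finset.sum_mul, ← Finset.sum_add_distrib, ← Finset.sum_filter, Phi_apply]
  · simp [hi]

variable {G : Type u} [Group G] [Fintype G] {φ : M →* G}

/-- A count of pairs, as a rational identity. -/
theorem Cfg.pair_rat (h : Cfg φ) (k : Fin 5) (c : IrrCharacter G → ℤ) (d U V : IrrCharacter G → ℤ)
    (hc : ∀ χ : IrrCharacter G, TISpecial.coef φ (Phi k) (χ : G → ℂ) = c χ)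
    (hd : ∀ χ : IrrCharacter G, (χ : G → ℂ) 1 = d χ) {i j : Fin 14}
    (hU : ∀ χ : IrrCharacter G, (χ : G → ℂ) (φ (rep i)) = U χ)
    (hV : ∀ χ : IrrCharacter G, (χ : G → ℂ) (φ (rep j)) = V χ)
    (hi : rep i * rep i = 1 ∧ ∀ m, cls m = i ↔ IsConj (φ (rep i)) (φ m))
    (hj : rep j * rep j = 1 ∧ ∀ m, cls m = j ↔ IsConj (φ (rep j)) (φ m))
    {S : ℤ} (hS : pairs k i j = (S, 0)) :
    ∑ χ, (c χ : ℚ) * ((U χ : ℚ) * V χ / d χ) =
      (Nat.card (centralizer ({φ (rep i)} : Set G)) : ℚ) *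
        Nat.card (centralizer ({φ (rep j)} : Set G)) / (Nat.card G * 648) * S := by
  have := TISpecial.pair_sum h.inj (h.fused k) (u := φ (rep i)) (u' := φ (rep j))
    (by rw [← map_mul, hi.1, map_one]) (by rw [← map_mul, hj.1, map_one])
    (fun m => decide (cls m = i)) (fun m => decide (cls m = j))
    (fun m => by rw [decide_eq_true_eq]; exact hi.2 m) (fun m => by rw [decide_eq_true_eq]; exact hj.2 m)
  rw [Phi_pairs, hS, card_M] at this
  simp only [hc, hd, hU, hV, Int.cast_zero, zero_mul, add_zero] at this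
  apply Rat.cast_injective (α := ℂ)
  push_cast at this ⊢
  exact this

theorem tUU_vals : tUU 0 = 3 ∧ tUU 1 = 3 / 2 ∧ tUU 2 = 3 ∧ tUU 3 = 0 := ⟨rfl, rfl, rfl, rfl⟩

theorem tUV_vals : tUV 0 = 3 ∧ tUV 1 = 3 / 2 ∧ tUV 2 = 0 ∧ tUV 3 = 0 := ⟨rfl, rfl, rfl, rfl⟩

theorem tVV_vals : tVV 0 = 6 ∧ tVV 1 = 9 / 2 ∧ tVV 2 = 0 ∧ tVV 3 = 3 := ⟨rfl, rfl, rfl, rfl⟩

/-- The numerical data. -/
theorem Cfg.exists_data (h : Cfg φ) :
    ∃ (o : IrrCharacter G) (c : Fin 5 → IrrCharacter G → ℤ) (d U V : IrrCharacter G → ℤ) (L M' N : ℚ),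
      (o : G → ℂ) = (fun _ => 1) ∧
      Data o c (fun χ => (d χ : ℚ)) (fun χ => (U χ : ℚ)) (fun χ => (V χ : ℚ)) L M' N ∧
      (∀ χ : IrrCharacter G, (χ : G → ℂ) 1 = d χ) ∧ (∀ χ, 0 < d χ) ∧
      (∀ χ : IrrCharacter G, (χ : G → ℂ) (φ (rep 2)) = U χ) := by
  classical
  obtain ⟨s2, s6, -, -⟩ := rep_sq
  have hdeg : ∀ χ : IrrCharacter G, ∃ z : ℤ, 0 < z ∧ (χ : G → ℂ) 1 = z := fun χ => by
    obtain ⟨n, hn, e⟩ := Char.IsIrr.degree χ.2
    exact ⟨n, by exact_mod_cast hn, by rw [e]; simp⟩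
  choose d hdpos hd using hdeg
  have hcoef : ∀ k (χ : IrrCharacter G), ∃ z : ℤ, TISpecial.coef φ (Phi k) (χ : G → ℂ) = z := fun k χ =>
    TISpecial.exists_int φ (isGeneralized_Phi k) (Char.IsIrr.isCharacter χ.2)
  choose c hc using hcoef
  have hint : ∀ i : Fin 14, rep i * rep i = 1 → ∀ χ : IrrCharacter G,
      ∃ v : ℤ, (χ : G → ℂ) (φ (rep i)) = v := fun i hu χ => by
    have hu' : φ (rep i) * φ (rep i) = 1 := by rw [← map_mul, hu, map_one]
    obtain ⟨-, w, -, -, -, hw, -, -, -, -, -⟩ := ThreeKlein.six_values (Char.IsIrr.isCharacter χ.2)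
      (x := φ (rep i)) (by rw [show (6 : ℕ) = 2 * 3 from rfl, pow_mul, sq, hu', one_pow])
      (by rw [inv_eq_of_mul_eq_one_right hu'])
    exact ⟨w, by rw [← hw, pow_succ, sq, hu', one_mul]⟩
  choose U hU using hint 2 s2
  choose V hV using hint 6 s6
  let o : IrrCharacter G := ⟨fun _ => 1, Char.isIrrCharacter_one⟩
  have hone : ∀ {a : ℤ} (g : G), (o : G → ℂ) g = a → a = 1 := fun {a} g e => by
    exact_mod_cast (show (a : ℂ) = 1 from e.symm)
  have hzero : ∀ k (m : M), vals k (cls m) = (0, 0) → ∀ (W : IrrCharacter G → ℤ),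
      (∀ χ : IrrCharacter G, (χ : G → ℂ) (φ m) = W χ) → ∑ χ, (c k χ : ℚ) * (W χ : ℚ) = 0 := by
    intro k m hm W hW
    have := TISpecial.sum_coef_mul h.inj (Phi k) (φ m)
    rw [TISpecial.ind_map h.inj (isClassFunction_Phi k) (h.fused k), Phi_apply, hm] at this
    simp only [hc, hW, Int.cast_zero, zero_mul, add_zero] at this
    exact_mod_cast this
  have h2 : ∀ m, cls m = 2 ↔ IsConj (φ (rep 2)) (φ m) := fun m => (h.cls_iff m).1
  have h6 : ∀ m, cls m = 6 ↔ IsConj (φ (rep 6)) (φ m) := fun m => (h.cls_iff m).2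
  have hp : ∀ g : G, (Nat.card (centralizer ({g} : Set G)) : ℚ) ≠ 0 := fun g =>
    Nat.cast_ne_zero.2 Nat.card_pos.ne'
  have hG : (Nat.card G : ℚ) ≠ 0 := Nat.cast_ne_zero.2 Nat.card_pos.ne'
  set C2 : ℚ := (Nat.card (centralizer ({φ (rep 2)} : Set G)) : ℚ) with hC2
  set C6 : ℚ := (Nat.card (centralizer ({φ (rep 6)} : Set G)) : ℚ) with hC6
  obtain ⟨a0, a1, a2, a3⟩ := pairs_eq
  obtain ⟨b0, b1, b2, b3⟩ := pairs_eq'
  obtain ⟨e0, e1, e2, e3⟩ := pairs_eq''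
  refine ⟨o, c, d, U, V, C2 * C2 / Nat.card G, C6 * C6 / Nat.card G, C2 * C6 / Nat.card G, rfl, ?_,
    hd, hdpos, hU⟩
  exact
  { gram := fun k l => by
      have := TISpecial.sum_coef_mul_conj (F := Phi k) h.inj (isClassFunction_Phi l) (h.fused l)
      rw [classInner_Phi] at this
      simp only [hc, map_intCast] at this
      exact_mod_cast this
    co := fun k => by
      have : TISpecial.coef φ (Phi k) (o : G → ℂ) = prin k := classInner_Phi_one k
      rw [hc] at this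
      exact_mod_cast this
    do_ := by exact_mod_cast hone 1 (hd o)
    uo := by exact_mod_cast hone _ (hU o)
    vo := by exact_mod_cast hone _ (hV o)
    d_ne := fun χ => Int.cast_ne_zero.2 (hdpos χ).ne'
    d_int := fun χ => ⟨d χ, rfl⟩
    lin := fun χ hχ => by
      have h1 : d χ = 1 := by
        rcases hχ with e | e
        · exact_mod_cast e
        · have : d χ = -1 := by exact_mod_cast e
          have := hdpos χ
          omega
      obtain ⟨f, hf⟩ := Char.IsChar.exists_hom (Char.IsIrr.isCharacter χ.2) (by rw [hd, h1]; simp)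
      have := hc 3 χ
      rw [TISpecial.coef, hf, show (fun m => ((f (φ m) : ℂˣ) : ℂ)) = fun m => ((f.comp φ) m : ℂ) from rfl,
        classInner_lin] at this
      exact_mod_cast this.symm
    L_ne := div_ne_zero (mul_ne_zero (hp _) (hp _)) hG
    M_ne := div_ne_zero (mul_ne_zero (hp _) (hp _)) hG
    hN := by ring
    sd := fun k => hzero k 1 (vals_zero k).2.2 d fun χ => by rw [map_one]; exact hd χ
    su := fun k => hzero k (rep 2) (by rw [cls_rep]; exact (vals_zero k).1) U hU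
    sv := fun k => hzero k (rep 6) (by rw [cls_rep]; exact (vals_zero k).2.1) V hV
    suu := fun k => by
      obtain rfl | rfl | rfl | rfl : k = 0 ∨ k = 1 ∨ k = 2 ∨ k = 3 := by fin_cases k <;> simp
      · rw [show (((0 : Fin 4)).castSucc : Fin 5) = 0 from rfl, h.pair_rat _ _ d U U (hc _) hd hU hU ⟨s2, h2⟩ ⟨s2, h2⟩ a0, ← hC2]; norm_num [tUU_vals]; ring
      · rw [show (((1 : Fin 4)).castSucc : Fin 5) = 1 from rfl, h.pair_rat _ _ d U U (hc _) hd hU hU ⟨s2, h2⟩ ⟨s2, h2⟩ a1, ← hC2]; norm_num [tUU_vals]; ring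
      · rw [show (((2 : Fin 4)).castSucc : Fin 5) = 2 from rfl, h.pair_rat _ _ d U U (hc _) hd hU hU ⟨s2, h2⟩ ⟨s2, h2⟩ a2, ← hC2]; norm_num [tUU_vals]; ring
      · rw [show (((3 : Fin 4)).castSucc : Fin 5) = 3 from rfl, h.pair_rat _ _ d U U (hc _) hd hU hU ⟨s2, h2⟩ ⟨s2, h2⟩ a3, ← hC2]; norm_num [tUU_vals]
    suv := fun k => by
      obtain rfl | rfl | rfl | rfl : k = 0 ∨ k = 1 ∨ k = 2 ∨ k = 3 := by fin_cases k <;> simp
      · rw [show (((0 : Fin 4)).castSucc : Fin 5) = 0 from rfl, h.pair_rat _ _ d U V (hc _) hd hU hV ⟨s2, h2⟩ ⟨s6, h6⟩ b0, ← hC2, ← hC6]; norm_num [tUV_vals]; ring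
      · rw [show (((1 : Fin 4)).castSucc : Fin 5) = 1 from rfl, h.pair_rat _ _ d U V (hc _) hd hU hV ⟨s2, h2⟩ ⟨s6, h6⟩ b1, ← hC2, ← hC6]; norm_num [tUV_vals]; ring
      · rw [show (((2 : Fin 4)).castSucc : Fin 5) = 2 from rfl, h.pair_rat _ _ d U V (hc _) hd hU hV ⟨s2, h2⟩ ⟨s6, h6⟩ b2, ← hC2, ← hC6]; norm_num [tUV_vals]
      · rw [show (((3 : Fin 4)).castSucc : Fin 5) = 3 from rfl, h.pair_rat _ _ d U V (hc _) hd hU hV ⟨s2, h2⟩ ⟨s6, h6⟩ b3, ← hC2, ← hC6]; norm_num [tUV_vals]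
    svv := fun k => by
      obtain rfl | rfl | rfl | rfl : k = 0 ∨ k = 1 ∨ k = 2 ∨ k = 3 := by fin_cases k <;> simp
      · rw [show (((0 : Fin 4)).castSucc : Fin 5) = 0 from rfl, h.pair_rat _ _ d V V (hc _) hd hV hV ⟨s6, h6⟩ ⟨s6, h6⟩ e0, ← hC6]; norm_num [tVV_vals]; ring
      · rw [show (((1 : Fin 4)).castSucc : Fin 5) = 1 from rfl, h.pair_rat _ _ d V V (hc _) hd hV hV ⟨s6, h6⟩ ⟨s6, h6⟩ e1, ← hC6]; norm_num [tVV_vals]; ring
      · rw [show (((2 : Fin 4)).castSucc : Fin 5) = 2 from rfl, h.pair_rat _ _ d V V (hc _) hd hV hV ⟨s6, h6⟩ ⟨s6, h6⟩ e2, ← hC6]; norm_num [tVV_vals]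
      · rw [show (((3 : Fin 4)).castSucc : Fin 5) = 3 from rfl, h.pair_rat _ _ d V V (hc _) hd hV hV ⟨s6, h6⟩ ⟨s6, h6⟩ e3, ← hC6]; norm_num [tVV_vals]; ring }

end Cfsg.Agent.ThreeFullWreath
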