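import Mathlib.Tactic.LinearCombination
import Mathlib.Tactic.Ring
import Mathlib.Algebra.Field.Rat

/-!
# Certificates for the systems of equations of the configuration
-/

set_option autoImplicit false
set_option maxHeartbeats 1000000

namespace Cfsg.Agent.ThreeFullWreath

variable {a c A B C L M N : ℚ}

/-- The main system has `c = -1` and `A = a`. -/
theorem std_solve
    (h0 : -a ^ 2 * B + a ^ 2 * C - a ^ 2 + 2 * a * A - A ^ 2 - A * B + 2 * a * C - A * C - B * C = 0)
    (h1 : 2 * a ^ 2 * A * B - a ^ 2 * A * C - a ^ 2 * B * C + 2 * a ^ 2 * C ^ 2 - 2 * a ^ 2 * A + 4 * a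
      * A ^ 2 - 2 * A ^ 3 + 2 * A ^ 2 * B + a ^ 2 * C + 4 * a * A * C - 6 * A ^ 2 * C + 2 * A
      * B * C - 4 * A * C ^ 2 = 0)
    (h2 : c ^ 2 * A * B + c ^ 2 * A * C + 2 * c ^ 2 * B * C + c ^ 2 * B - 2 * c * B ^ 2 + A * B ^ 2 + B
      ^ 3 + c ^ 2 * C + 2 * c * B * C - A * B * C - B ^ 2 * C = 0)
    (h3 : -2 * c ^ 2 * A * B + 3 * c ^ 2 * A * C - 5 * c ^ 2 * B * C + 6 * c ^ 2 * C ^ 2 - 2 * c ^ 2 *
      B + 4 * c * B ^ 2 + 2 * A * B ^ 2 - 2 * B ^ 3 + 3 * c ^ 2 * C - 4 * c * B * C - 2 * A *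
      B * C + 6 * B ^ 2 * C - 4 * B * C ^ 2 = 0)
    (h4 : -3 * a * c * A - a * c * B - 2 * a * c * C - 3 * a * c + a * A - 3 * c * A - A ^ 2 + 3 * a *
      B - c * B + B ^ 2 - 2 * a * C - 2 * c * C - 2 * A * C - 2 * B * C + a - 3 * c - A + 3 *
      B - 4 * C = 0)
    (na : a ≠ 0) (nc : c ≠ 0) (nB : B ≠ 0) (nC : C ≠ 0) (n8 : B - A - 2 * C - 1 ≠ 0) :
    c = -1 ∧ A = a := by
  have h5 : 5 * c ^ 2 * A ^ 2 + 17 * c ^ 2 * A * C + 12 * c ^ 2 * C ^ 2 + 10 * c ^ 2 * A - 10 * c * A * B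
      + A ^ 2 * B + 5 * A * B ^ 2 + 17 * c ^ 2 * C + 10 * c * A * C - A ^ 2 * C - 12 * c * B
      * C - 3 * A * B * C + 6 * B ^ 2 * C + 12 * c * C ^ 2 - 2 * A * C ^ 2 - 6 * B * C ^ 2 +
      5 * c ^ 2 - 10 * c * B + A * B + 5 * B ^ 2 + 10 * c * C - A * C - 9 * B * C + 4 * C ^ 2 = 0 := by
    refine (mul_eq_zero.1 (show B * _ = 0 from ?_)).resolve_left nB
    linear_combination (-A - 1) * h3 + (3 * A + 6 * C + 3) * h2
  have h6 : 200 * a * c * B ^ 2 - 432 * a * A * B ^ 2 - 180 * c * A * B ^ 2 - 180 * a * B ^ 3 + 240 * a ^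
      2 * c * C + 15 * a ^ 2 * A * C - 1077 * a * c * A * C - 360 * c ^ 2 * A * C + 12 * a *
      A ^ 2 * C + 492 * c * A ^ 2 * C + 45 * a ^ 2 * B * C - 695 * a * c * B * C + 72 * c ^ 2
      * B * C + 324 * a * A * B * C + 420 * c * A * B * C - 192 * a * B ^ 2 * C - 432 * c * B
      ^ 2 * C - 30 * a ^ 2 * C ^ 2 - 582 * a * c * C ^ 2 - 432 * c ^ 2 * C ^ 2 + 132 * a * A
      * C ^ 2 + 744 * c * A * C ^ 2 + 384 * a * B * C ^ 2 + 924 * c * B * C ^ 2 + 120 * a ^ 2
      * c - 60 * a ^ 2 * A - 240 * a * c * A + 120 * a * A ^ 2 + 120 * c * A ^ 2 - 60 * A ^ 3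
      - 180 * a ^ 2 * B + 120 * a * c * B + 124 * a * A * B - 60 * c * A * B - 52 * A ^ 2 * B
      - 120 * a * B ^ 2 + 20 * c * B ^ 2 - 660 * A * B ^ 2 - 20 * B ^ 3 + 135 * a ^ 2 * C -
      957 * a * c * C - 360 * c ^ 2 * C + 228 * a * A * C + 252 * c * A * C - 228 * A ^ 2 * C
      + 844 * a * B * C - 380 * c * B * C + 280 * A * B * C - 788 * B ^ 2 * C - 492 * a * C ^
      2 + 432 * c * C ^ 2 + 648 * B * C ^ 2 - 60 * a ^ 2 + 120 * a * A - 60 * A ^ 2 - 20 * a
      * B + 60 * c * B - 88 * A * B - 60 * B ^ 2 + 240 * a * C - 360 * c * C - 132 * A * C +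
      332 * B * C - 432 * C ^ 2 = 0 := by
    refine (mul_eq_zero.1 (show a * _ = 0 from ?_)).resolve_left na
    linear_combination (45 * a * c + 27 * A + 27 * B) * h1 + (90 * a * c * A - 60 * a * c * C + 60 * a * c - 54 * A
      ^ 2 + 54 * A * B - 108 * A * C) * h0 + (-108 * a ^ 2 - 108 * a) * h5 + (-180 * a * c *
      A + 15 * a ^ 2 * C - 432 * a * c * C - 60 * a ^ 2 - 180 * a * c + 60 * a * A + 160 * a
      * B) * h4 + (-36 * a ^ 2 - 180 * a) * h2 + (72 * a ^ 2) * h3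
  have h7 : 8 * a * A * B - 4 * A ^ 2 * B - 6 * a * A * C + 3 * A ^ 2 * C - 2 * a * B * C - 4 * A * B * C
      + B ^ 2 * C + 4 * a * C ^ 2 + 2 * A * C ^ 2 - 2 * B * C ^ 2 + 4 * A * B + 2 * a * C - 5
      * A * C - B * C = 0 := by
    refine (mul_eq_zero.1 (show a * _ = 0 from ?_)).resolve_left na
    linear_combination (-(1 / 27)) * h6 + ((5 / 3) * c + 2) * h1 + ((10 / 3) * c * A - (20 / 9) * c * C + (20 / 9) *
      c - 4 * A) * h0 + (-(4 / 3) * a - (20 / 3)) * h2 + (-(20 / 3) * c * A + (5 / 9) * a * C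
      - 16 * c * C - (20 / 9) * a - (20 / 3) * c + (20 / 9) * A + (160 / 27) * B) * h4 + (-4
      * a - 4) * h5 + ((8 / 3) * a) * h3
  have h8 : 16 * a * c ^ 2 * B - 3 * c ^ 2 * A * B - 16 * a * c ^ 2 * C - 33 * c ^ 2 * A * C - 36 * c ^ 2
      * C ^ 2 - 10 * a * c * A + 10 * c * A ^ 2 - 30 * a * c * B + 13 * c ^ 2 * B + 6 * a * A
      * B + 30 * c * A * B - 6 * A ^ 2 * B - 30 * a * B ^ 2 - 10 * c * B ^ 2 - 15 * A * B ^ 2
      + 3 * B ^ 3 + 20 * a * c * C - 49 * c ^ 2 * C - 10 * c * A * C + 3 * A ^ 2 * C + 36 * a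
      * B * C + 56 * c * B * C + 3 * A * B * C - 24 * B ^ 2 * C - 36 * c * C ^ 2 + 6 * A * C
      ^ 2 + 18 * B * C ^ 2 - 10 * a * c + 10 * c * A + 6 * a * B - 6 * A * B - 30 * B ^ 2 +
      10 * c * C + 3 * A * C + 39 * B * C - 12 * C ^ 2 = 0 := by
    refine (mul_eq_zero.1 (show C * _ = 0 from ?_)).resolve_left nC
    linear_combination (3 * B) * h7 + (-6 * a + 3 * A - 3) * h3 + (-12 * a + 6 * A - 6) * h2 + (-10 * c * C) * h4 +
      (-3 * C) * h5
  have h9 : 306 * a * A ^ 2 * C - 1404 * c * A ^ 2 * C - 400 * a ^ 2 * B * C - 2688 * a * c * B * C +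
      1710 * a * A * B * C - 450 * c * A * B * C - 54 * A ^ 2 * B * C + 1080 * a * B ^ 2 * C
      + 630 * c * B ^ 2 * C + 108 * A * B ^ 2 * C + 54 * B ^ 3 * C + 400 * a ^ 2 * C ^ 2 +
      2688 * a * c * C ^ 2 - 1044 * a * A * C ^ 2 - 2358 * c * A * C ^ 2 + 27 * A ^ 2 * C ^ 2
      - 720 * a * B * C ^ 2 - 1710 * c * B * C ^ 2 - 216 * A * B * C ^ 2 - 27 * B ^ 2 * C ^ 2
      - 324 * c * C ^ 3 + 54 * A * C ^ 3 - 54 * B * C ^ 3 + 900 * a * c * A + 360 * a * A ^ 2
      - 360 * A ^ 3 - 320 * a ^ 2 * B + 300 * a * c * B - 1728 * a * A * B + 864 * A ^ 2 * B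
      + 360 * a * B ^ 2 - 80 * a ^ 2 * C + 600 * a * c * C + 3722 * a * A * C - 2808 * c * A
      * C - 1972 * A ^ 2 * C - 3138 * c * B * C + 3506 * A * B * C + 2814 * B ^ 2 * C + 1328
      * a * C ^ 2 + 330 * c * C ^ 2 - 4669 * A * C ^ 2 - 3121 * B * C ^ 2 - 108 * C ^ 3 - 320
      * a ^ 2 + 900 * a * c + 1060 * a * A + 900 * c * A - 740 * A ^ 2 - 4500 * a * B + 300 *
      c * B + 616 * A * B + 60 * B ^ 2 + 5728 * a * C - 804 * c * C - 1724 * A * C + 3700 * B
      * C - 4128 * C ^ 2 + 60 * a + 900 * c - 60 * A - 2700 * B + 2640 * C = 0 := by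
    refine (mul_eq_zero.1 (show c * _ = 0 from ?_)).resolve_left nc
    linear_combination (60 * A + 60) * h8 + (-300 * c ^ 2 * A - 180 * a * c * B + 310 * a * c * C - 720 * c ^ 2 * C
      - 700 * a * c - 300 * c ^ 2 + 1000 * c * A + 180 * a * B - (2860 / 3) * c * B + 1080 *
      B ^ 2 - 80 * a * C + 708 * c * C - 180 * A * C - 1260 * B * C - 220 * a + 220 * A +
      (500 / 3) * B + 720 * C) * h4 + (1320 * c ^ 2 * A + 180 * c ^ 2 * B - 160 * c ^ 2 * C +
      1060 * c ^ 2 - 120 * c * A - 720 * c * B + 180 * A + 540 * B - 360 * C + 180) * h0 +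
      (-60 * a * c + 54 * c * A + 135 * c * C - 3660 * a - 1254 * c + 900 * A - 1080 * B +
      2160 * C - 3720) * h2 + (-180 * a * c - 27 * c * C - 180 * a - 180 * c + 360 * A + 180)
      * h5 + (120 * a * c + 27 * c * A + 54 * c * C + 480 * a - 477 * c) * h3 + (-(26 / 3) *
      c - (20 / 3)) * h6 + (27 * c * B + 180 * B - 180) * h7 + (390 * c ^ 2 + 300 * c) * h1
  have h10 : -160 * a ^ 2 * c * C - 10 * a ^ 2 * A * C + 412 * a * c * A * C + 105 * c ^ 2 * A * C - 2 * a
      * A ^ 2 * C - 152 * c * A ^ 2 * C + 30 * a ^ 2 * B * C + 260 * a * c * B * C - 21 * c ^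
      2 * B * C + 30 * a * A * B * C - 210 * c * A * B * C + 18 * A ^ 2 * B * C + 140 * a * B
      ^ 2 * C + 50 * c * B ^ 2 * C - 36 * A * B ^ 2 * C - 18 * B ^ 3 * C - 40 * a ^ 2 * C ^ 2
      + 152 * a * c * C ^ 2 + 126 * c ^ 2 * C ^ 2 - 52 * a * A * C ^ 2 - 94 * c * A * C ^ 2 -
      9 * A ^ 2 * C ^ 2 - 160 * a * B * C ^ 2 - 310 * c * B * C ^ 2 + 72 * A * B * C ^ 2 + 9
      * B ^ 2 * C ^ 2 + 108 * c * C ^ 3 - 18 * A * C ^ 3 + 18 * B * C ^ 3 - 80 * a ^ 2 * c +
      40 * a ^ 2 * A + 160 * a * c * A - 80 * a * A ^ 2 - 80 * c * A ^ 2 + 40 * A ^ 3 + 90 *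
      a ^ 2 * B + 80 * a * c * B - 144 * a * A * B - 80 * c * A * B + 72 * A ^ 2 * B - 80 * a
      * B ^ 2 + 84 * A * B ^ 2 + 172 * a * c * C + 105 * c ^ 2 * C - 158 * a * A * C - 12 * c
      * A * C + 128 * A ^ 2 * C - 152 * a * B * C - 70 * c * B * C + 154 * A * B * C + 202 *
      B ^ 2 * C - 8 * a * C ^ 2 + 58 * c * C ^ 2 + 51 * A * C ^ 2 - 109 * B * C ^ 2 + 36 * C
      ^ 3 + 10 * a ^ 2 - 20 * a * A + 10 * A ^ 2 + 18 * A * B - 40 * a * C + 60 * c * C + 22
      * A * C - 42 * B * C + 72 * C ^ 2 = 0 := by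
    refine (mul_eq_zero.1 (show c * _ = 0 from ?_)).resolve_left nc
    linear_combination (20 * a * c - 9 * c * A - 18 * c * C - 10 * A - 10 * B) * h3 + (-10 * a * c - 18 * c * A - 45
      * c * C - 50 * c + 20 * A - 20 * B + 40 * C) * h2 + (-50 * c ^ 2 * A - 30 * a * c * B +
      (80 / 3) * a * c * C - 120 * c ^ 2 * C - (50 / 3) * a * c - 50 * c ^ 2 + (50 / 3) * c *
      A + (370 / 9) * c * B) * h4 + (-10 * c ^ 2) * h1 + (70 * c ^ 2 * A + 30 * c ^ 2 * B +
      (220 / 3) * c ^ 2 * C + (230 / 3) * c ^ 2 - 30 * c * A - 90 * c * B) * h0 + (-30 * a *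
      c + 9 * c * C - 30 * c) * h5 + (-(4 / 9) * c) * h6 + (-20 * c ^ 2 - 9 * c * B) * h7
  have h11 : 4 * A ^ 2 * B + 10 * c * A * C - A ^ 2 * C - 2 * c * B * C + 8 * A * B * C + B ^ 2 * C + 12 *
      c * C ^ 2 - 2 * A * C ^ 2 + 2 * B * C ^ 2 + 4 * A * B + 10 * c * C - A * C - B * C + 4
      * C ^ 2 = 0 := by
    refine (mul_eq_zero.1 (show c * _ = 0 from ?_)).resolve_left nc
    linear_combination ((1 / 10)) * h10 + (-7 * c * A - 3 * c * B - (22 / 3) * c * C - (23 / 3) * c + 3 * A + 9 * B)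
      * h0 + (5 * c * A + 3 * a * B - (8 / 3) * a * C + 12 * c * C + (5 / 3) * a + 5 * c - (5
      / 3) * A - (37 / 9) * B) * h4 + (-2 * a + (9 / 10) * A + (9 / 5) * C + 2) * h3 + (a +
      (9 / 5) * A + (9 / 2) * C + 9) * h2 + (3 * a - (9 / 10) * C + 3) * h5 + ((2 / 45)) * h6
      + (2 * c + (9 / 10) * B) * h7 + (c) * h1
  have h12 : 3 * a * A ^ 2 - 8 * a * c * B + 6 * a * A * B + 3 * a * B ^ 2 + 8 * a * c * C + 5 * a * A + A
      ^ 2 + 15 * a * B - 8 * c * B + 6 * A * B + 5 * B ^ 2 - 10 * a * C + 8 * c * C - 4 * A *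
      C - 4 * B * C + 2 * a + A + 15 * B - 14 * C = 0 := by
    refine (mul_eq_zero.1 (show C * _ = 0 from ?_)).resolve_left nC
    linear_combination ((3 / 2) * a + (3 / 2)) * h11 + ((3 / 2) * a - (3 / 2)) * h7 + (6 * A) * h0 + (-3) * h1 + (5
      * C) * h4
  have h13 : 5 * c * A ^ 2 + A ^ 3 - 5 * a * A * B - c * A * B + 2 * A ^ 2 * B + a * B ^ 2 + A * B ^ 2 + 4
      * a * A * C + 6 * c * A * C - 2 * a * B * C - a * A + 10 * c * A + 3 * A ^ 2 - c * B -
      3 * A * B - 2 * a * C + 6 * c * C + 8 * A * C + 2 * B * C - a + 5 * c + 2 * A + 2 * C = 0 := by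
    refine (mul_eq_zero.1 (show C * _ = 0 from ?_)).resolve_left nC
    linear_combination ((1 / 2) * A + (1 / 2)) * h11 + (a + (1 / 2) * A - (1 / 2)) * h7 + (4 * A) * h0 + (-2) * h1
  have em : c + 1 = 0 := by
    refine (mul_eq_zero.1 (show (B * a ^ 2 * (B - A - 2 * C - 1) ^ 2) * _ = 0 from ?_)).resolve_left ?_
    · linear_combination ((733 / 240) * c ^ 2 * A - (245 / 96) * c * A ^ 2 + (7 / 16) * c ^ 2 * B - (85 / 32) * c * A
      * B - (1 / 4) * A ^ 2 * B - (7 / 16) * c * B ^ 2 + (5 / 4) * A * B ^ 2 - (1 / 2) * B ^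
      3 + (11 / 24) * c ^ 2 * C - (1 / 24) * c * A * C + (1 / 8) * A ^ 2 * C - (29 / 24) * c
      * B * C - (1 / 4) * A * B * C - (11 / 8) * B ^ 2 * C + (3 / 2) * c * C ^ 2 - (1 / 4) *
      A * C ^ 2 + (11 / 4) * B * C ^ 2 + (43 / 48) * c ^ 2 + (37 / 24) * c * A - (719 / 96) *
      A ^ 2 - (25 / 12) * c * B + (1537 / 160) * A * B + (3 / 16) * B ^ 2 + (139 / 24) * c *
      C - (187 / 24) * A * C + (29 / 12) * B * C + (1 / 2) * C ^ 2 + (185 / 48) * c - (155 /
      16) * A + (47 / 48) * B + (7 / 12) * C - (2 / 3)) * h0 + (-(259 / 240) * c ^ 2 + (11 /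
      16) * c * A + (23 / 16) * c * B - (3 / 8) * A * B + (9 / 8) * B ^ 2 - (3 / 4) * c * C +
      (1 / 8) * A * C - (11 / 8) * B * C + (109 / 192) * c + (145 / 32) * A + (149 / 160) * B
      - (1 / 4) * C + (339 / 64)) * h1 + (-(5 / 8) * a * c * A + (125 / 18) * c ^ 2 * A - (47
      / 32) * a * A ^ 2 + (59 / 32) * c * A ^ 2 - (7 / 16) * a * c * B + (13 / 16) * a * A *
      B - (15 / 16) * c * A * B + (37 / 48) * a * B ^ 2 + (101 / 32) * a * c * C + (50 / 3) *
      c ^ 2 * C - (43 / 64) * a * A * C - (7 / 64) * c * A * C + (107 / 64) * a * B * C -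
      (185 / 64) * c * B * C - (133 / 144) * a * c + (125 / 18) * c ^ 2 - (55 / 96) * a * A +
      (937 / 288) * c * A - (67 / 48) * A ^ 2 - (3 / 16) * a * B - (113 / 9) * c * B - (49 /
      8) * A * B + (55 / 9) * B ^ 2 - (15 / 64) * a * C + (29 / 64) * c * C - (123 / 32) * A
      * C - (1661 / 288) * B * C - (13 / 9) * a + (10 / 9) * c + (37 / 18) * A - (5 / 2) * B
      - C + (10 / 9)) * h4 + (-(9 / 16) * a ^ 2 - (25 / 9) * a * c - (883 / 320) * a * A + A
      ^ 2 + (311 / 320) * a * B - (9 / 16) * A * B - (1 / 16) * B ^ 2 + (7 / 4) * a * C + (3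
      / 4) * A * C - (7 / 8) * B * C + (3767 / 960) * a - (25 / 9) * c - (3911 / 2880) * A +
      (6911 / 2880) * B - (1 / 8) * C + (14077 / 2880)) * h3 + (-(1 / 4) * a ^ 2 + (25 / 18)
      * a * c - (493 / 80) * a * A - (1 / 2) * A ^ 2 + (241 / 160) * a * B - (11 / 8) * A * B
      - (1 / 8) * B ^ 2 - (87 / 20) * a * C + (3 / 4) * A * C - (9 / 8) * B * C + (3 / 4) * C
      ^ 2 - (6773 / 480) * a + (25 / 18) * c - (2779 / 720) * A - (3089 / 1440) * B + (191 /
      60) * C - (15923 / 1440)) * h2 + (-(47 / 32) * a * c * A - (1 / 6) * a * B ^ 2 + (2 /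
      9) * a * c + (47 / 96) * a * A - (695 / 288) * c * A - (47 / 96) * A ^ 2 - (1 / 6) * c
      * B + (701 / 480) * A * B + (1 / 6) * B ^ 2 + (7 / 18) * a - (13 / 18) * c - (11 / 18)
      * A + (1 / 2) * B - (2 / 9)) * h12 + (-(3 / 8) * a ^ 2 + (25 / 6) * a * c + (177 / 160)
      * a * A - (1 / 4) * a * C - (1 / 8) * A * C - (919 / 720) * a + (25 / 6) * c + (2891 /
      1440) * A) * h5 + (-(187 / 160) * a * c ^ 2 - (5 / 8) * c ^ 2 * A - (1 / 16) * c ^ 2 *
      B - (15 / 8) * c ^ 2 * C + (81 / 32) * a * c - (1379 / 480) * c ^ 2 - (47 / 32) * a * A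
      + (383 / 192) * c * A + (1 / 16) * A ^ 2 + (153 / 160) * a * B + (679 / 192) * c * B -
      (13 / 16) * A * B - (7 / 8) * B ^ 2 - (45 / 32) * a + (141 / 32) * c + (173 / 192) * A
      - (2023 / 960) * B + (5 / 3)) * h7 + ((329 / 192) * a ^ 2 * c + (1 / 4) * a ^ 2 * B -
      (181 / 192) * a ^ 2 - (489 / 320) * a * A + (1 / 2) * c * A - (3 / 16) * A ^ 2 + (327 /
      320) * a * B + (1 / 6) * c * B - (3 / 16) * A * B - (4079 / 2880) * a - (233 / 192) * c
      - (6457 / 2880) * A + (287 / 2880) * B - 1) * h11 + ((2 / 3) * c * A + (2 / 3) * c + (2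
      / 3) * A + (2 / 3)) * h13
    · simp [na, nc, nB, n8]
  have eXa : A - a = 0 := by
    refine (mul_eq_zero.1 (show (a * c ^ 2 * (B - A - 2 * C - 1) ^ 2) * _ = 0 from ?_)).resolve_left ?_
    · linear_combination ((9 / 32) * a * c * A + (5 / 9) * c ^ 2 * A + (433 / 384) * a * A ^ 2 - (71 / 128) * c * A ^
      2 - (7 / 192) * a * c * B - (25 / 64) * a * A * B - (103 / 192) * c * A * B - (19 / 64)
      * a * B ^ 2 - (443 / 384) * a * c * C + (4 / 3) * c ^ 2 * C + (135 / 256) * a * A * C +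
      (377 / 768) * c * A * C - (391 / 256) * a * B * C + (391 / 768) * c * B * C + (745 /
      576) * a * c + (5 / 9) * c ^ 2 + (761 / 1152) * a * A - (3085 / 1152) * c * A + (557 /
      576) * A ^ 2 - (35 / 192) * a * B - (22 / 9) * c * B + (481 / 288) * A * B + (25 / 18)
      * B ^ 2 + (49 / 768) * a * C + (2269 / 768) * c * C + (1093 / 384) * A * C - (511 /
      1152) * B * C + (1 / 3) * a - (10 / 9) * c + (1 / 6) * A + (5 / 2) * B + C) * h4 +
      (-(303 / 64) * c ^ 2 * A + (809 / 384) * c * A ^ 2 + (199 / 192) * c ^ 2 * B + (121 /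
      128) * c * A * B + (1 / 4) * A ^ 2 * B - (199 / 192) * c * B ^ 2 - (5 / 4) * A * B ^ 2
      + (1 / 2) * B ^ 3 - (391 / 96) * c ^ 2 * C + (89 / 32) * c * A * C - (1 / 8) * A ^ 2 *
      C + (133 / 32) * c * B * C + (1 / 4) * A * B * C + (11 / 8) * B ^ 2 * C - (3 / 2) * c *
      C ^ 2 + (1 / 4) * A * C ^ 2 - (11 / 4) * B * C ^ 2 - (583 / 192) * c ^ 2 + (935 / 96) *
      c * A + (737 / 128) * A ^ 2 + (121 / 48) * c * B - (443 / 384) * A * B + (33 / 64) * B
      ^ 2 - (101 / 96) * c * C + (247 / 48) * A * C - (101 / 32) * B * C - (1 / 2) * C ^ 2 -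
      (29 / 192) * c + (1357 / 192) * A - (323 / 192) * B - (7 / 12) * C) * h0 + (-(3 / 16) *
      a ^ 2 + (1 / 9) * a * c - (67 / 64) * a * A + (1 / 2) * A ^ 2 - (43 / 384) * a * B +
      (11 / 8) * A * B + (1 / 8) * B ^ 2 - (4 / 3) * a * C - (3 / 4) * A * C + (9 / 8) * B *
      C - (3 / 4) * C ^ 2 - (185 / 128) * a + (1 / 9) * c + (419 / 576) * A + (1153 / 1152) *
      B + (35 / 96) * C + (19 / 1152)) * h2 + ((13 / 64) * a ^ 2 - (2 / 9) * a * c + (2089 /
      768) * a * A - A ^ 2 - (29 / 768) * a * B + (9 / 16) * A * B + (1 / 16) * B ^ 2 - (7 /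
      4) * a * C - (3 / 4) * A * C + (7 / 8) * B * C + (19 / 256) * a - (2 / 9) * c + (6199 /
      2304) * A + (1793 / 2304) * B + (1 / 8) * C + (1939 / 2304)) * h3 + ((163 / 192) * c ^
      2 - (71 / 64) * c * A - (119 / 64) * c * B + (3 / 8) * A * B - (9 / 8) * B ^ 2 + (3 /
      4) * c * C - (1 / 8) * A * C + (11 / 8) * B * C - (3841 / 768) * c - (1219 / 384) * A -
      (1291 / 384) * B + (1 / 4) * C - (2941 / 768)) * h1 + ((433 / 384) * a * c * A + (1 /
      6) * a * B ^ 2 - (2 / 9) * a * c - (433 / 1152) * a * A + (2387 / 1152) * c * A + (433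
      / 1152) * A ^ 2 + (1 / 6) * c * B - (359 / 1152) * A * B - (1 / 6) * B ^ 2 - (1 / 6) *
      a + (13 / 18) * c + (1 / 6) * A - (1 / 2) * B) * h12 + (-(1 / 32) * a ^ 2 + (1 / 3) * a
      * c - (17 / 128) * a * A + (1 / 4) * a * C + (1 / 8) * A * C - (1 / 576) * a + (1 / 3)
      * c - (187 / 1152) * A) * h5 + ((257 / 384) * a * c ^ 2 + (5 / 8) * c ^ 2 * A + (1 /
      16) * c ^ 2 * B + (15 / 8) * c ^ 2 * C - (21 / 128) * a * c + (823 / 384) * c ^ 2 +
      (433 / 384) * a * A - (835 / 768) * c * A - (1 / 16) * A ^ 2 + (229 / 384) * a * B -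
      (673 / 256) * c * B + (13 / 16) * A * B + (7 / 8) * B ^ 2 + (419 / 384) * a - (1975 /
      384) * c - (95 / 256) * A + (105 / 256) * B - 1) * h7 + (-(159 / 256) * a ^ 2 * c - (1
      / 4) * a ^ 2 * B + (649 / 768) * a ^ 2 + (275 / 768) * a * A - (1 / 2) * c * A + (3 /
      16) * A ^ 2 - (229 / 768) * a * B - (1 / 6) * c * B + (3 / 16) * A * B + (4279 / 2304)
      * a + (31 / 256) * c + (1229 / 2304) * A - (571 / 2304) * B + 1) * h11 + (-(2 / 3) * c
      * A - (2 / 3) * c) * h13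
    · simp [na, nc, nB, n8]
  exact ⟨by linear_combination em, by linear_combination eXa⟩

/-- The main system with `p = 0`. -/
theorem std_zero_one
    (h0 : -3 * A ^ 2 * L - 3 * A * C * L + C = 0)
    (h1 : c ^ 2 * C + 3 * B ^ 2 * M - 3 * B * C * M = 0)
    (h2 : 3 * A ^ 2 * L + 3 * A * B * L + 3 * A * L - B - 1 = 0)
    (h3 : 3 * A ^ 2 * L - 3 * A * B * L + 9 * A * C * L - 3 * B * C * L + 6 * C ^ 2 * L + 3 * A * L + 3
      * C * L + 2 * B - 2 * C - 2 = 0)
    (h4 : 3 * A * N + 3 * B * N + c + 3 * N + 1 = 0)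
    (h5 : 3 * A * N - 3 * B * N + 6 * C * N - 2 * c + 3 * N + 2 = 0)
    (h6 : -c ^ 2 * A + 6 * A * B * M + 6 * B ^ 2 * M - c ^ 2 + 2 * c * B - A * B - B ^ 2 + 6 * B * M = 0)
    (h7 : -2 * c ^ 2 * A - 2 * c ^ 2 * C - 9 * A * B * M + 9 * B ^ 2 * M + 9 * A * C * M - 27 * B * C *
      M + 18 * C ^ 2 * M - 2 * c ^ 2 + 4 * c * B + 2 * A * B - 2 * B ^ 2 - 4 * c * C - 2 * A
      * C + 6 * B * C - 4 * C ^ 2 - 9 * B * M + 9 * C * M = 0)
    (h8 : -L * M + N ^ 2 = 0)
    (nA : A ≠ 0) (nB : B ≠ 0) (nL : L ≠ 0) (n9 : (A + C) ≠ 0) :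
    False := by
  have e : (A * B * L ^ 3 * (A + C)) = 0 := by
    linear_combination ((584065 / 13599252) * c ^ 3 + (94319173 / 870352128) * c ^ 2 * A + (82230949 / 1740704256) *
      c ^ 2 * B - (106407397 / 870352128) * c ^ 2 * C - (4225 / 14814) * c ^ 2 * L +
      (29965061 / 9066168) * c * A * L - (512686871 / 145058688) * A ^ 2 * L + (29965061 /
      9066168) * c * B * L - (709073783 / 145058688) * A * B * L - (681899 / 503676) * B ^ 2
      * L + (512686871 / 145058688) * A * C * L + (512686871 / 145058688) * B * C * L - (127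
      / 9876) * A * L ^ 2 - (1261 / 9876) * B * L ^ 2 - (1079 / 4938) * C * L ^ 2 -
      (102377989 / 96705792) * A * B * M - (102377989 / 96705792) * B ^ 2 * M - (2773 /
      29628) * c * L * M + (21106057 / 1511028) * A * L * M + (21482131 / 1511028) * B * L *
      M - (1229 / 4938) * C * L * M + (113711 / 2266542) * c ^ 2 * N + (1275188897 /
      290117376) * c * A * N - (15681221 / 16117632) * A ^ 2 * N + (1464247969 / 290117376) *
      c * B * N - (869963279 / 290117376) * A * B * N - (227410279 / 96705792) * B ^ 2 * N -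
      (844643 / 1133271) * c * C * N + (18441067 / 17065728) * A * C * N + (136009225 /
      96705792) * B * C * N + (6235 / 7407) * c * L * N - (7546349 / 755514) * A * L * N -
      (7289003 / 755514) * B * L * N - (841 / 2469) * C * L * N + (177496 / 125919) * A * M *
      N + (177496 / 125919) * B * M * N + (291396293 / 870352128) * c ^ 2 + (922081741 /
      1740704256) * c * A - (251101637 / 1740704256) * c * B + (106407397 / 580234752) * A *
      B + (106407397 / 580234752) * B ^ 2 + (20929199 / 145058688) * c * C + (31373273 /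
      9066168) * c * L - (416889565 / 48352896) * A * L - (6862061 / 1133271) * B * L +
      (456661943 / 145058688) * C * L - (127 / 9876) * L ^ 2 + (2043953 / 4533084) * c * M +
      (5599639 / 12088224) * A * M - (846183557 / 290117376) * B * M + (358364047 /
      145058688) * C * M + (9846347 / 755514) * L * M + (1430343137 / 290117376) * c * N +
      (120398485 / 290117376) * A * N + (246041309 / 145058688) * B * N - (130264951 /
      96705792) * C * N - (6910379 / 755514) * L * N + (84125 / 55964) * M * N + (429867365 /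
      193411584) * c - (752633377 / 870352128) * A + (113310781 / 145058688) * B + (3367165 /
      10745088) * C - (10893109 / 2266542) * L + (202536133 / 36264672) * M - (611671633 /
      290117376) * N - (732961235 / 870352128)) * h0 + (-(1627 / 29628) * c ^ 2 * L - (1079 /
      9876) * A * L ^ 2 + (383 / 9876) * c * L * N - (26003291 / 1740704256) * c ^ 2 +
      (20929199 / 290117376) * c * A - (17074685 / 96705792) * c * B + (106407397 /
      1740704256) * A * B + (106407397 / 1740704256) * B ^ 2 + (365 / 7407) * c * L - (11443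
      / 59256) * A * L + (476 / 7407) * B * L - (14 / 7407) * c * M + (69442219 / 96705792) *
      A * M + (828395 / 711072) * C * M + (2819 / 29628) * L * M + (2285323 / 4533084) * c *
      N - (2255995 / 2266542) * A * N + (99 / 823) * L * N - (2773 / 59256) * M * N + (893195
      / 4533084) * c - (752633377 / 1740704256) * A - (184628 / 3399813) * B + (197 / 3292) *
      L - (286003 / 447712) * M + (374399 / 1133271) * N + (3731377 / 27198504)) * h3 +
      (-(146953 / 503676) * c * A * L - (106407397 / 580234752) * A ^ 2 * L - (184628 /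
      1133271) * c * B * L - (106407397 / 580234752) * B * C * L + (106407397 / 290117376) *
      C ^ 2 * L + (37 / 1646) * c * L ^ 2 + (433 / 823) * A * L ^ 2 - (476 / 2469) * B * L ^
      2 + (952 / 2469) * C * L ^ 2 - (80593 / 167892) * c * L + (1615429 / 290117376) * A * L
      + (184628 / 377757) * B * L - (10063361 / 21490176) * C * L + (247 / 2469) * L ^ 2 +
      (1545887 / 9066168) * A * N - (6545 / 29628) * L * N + (1649041 / 13599252) * c +
      (106407397 / 1740704256) * B + (106407397 / 1740704256) * C + (698885 / 4533084) * L +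
      (3017147 / 9066168) * N - (194602405 / 580234752)) * h6 + ((584065 / 4533084) * c * A *
      L + (9632731 / 8532864) * A ^ 2 * L + (9632731 / 8532864) * A * B * L - (37 / 1646) * c
      * L ^ 2 + (239 / 9876) * A * L ^ 2 + (277 / 9876) * B * L ^ 2 + (1627 / 4938) * C * L ^
      2 + (369256 / 1133271) * c * L + (89024489 / 48352896) * A * L - (4598441 / 9066168) *
      B * L + (5447489 / 4533084) * C * L + (1079 / 3292) * L ^ 2 - (480911 / 2266542) * A *
      N + (3439 / 14814) * L * N - (2061089 / 13599252) * c + (5095963 / 54397008) * A -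
      (30185543 / 108794016) * B - (20378887 / 435176064) * C + (791 / 19752) * L - (23167 /
      44442) * N - (57449353 / 36264672)) * h1 + (-(184628 / 3399813) * c ^ 3 + (82230949 /
      1740704256) * c ^ 2 * A - (9988267 / 25598592) * c ^ 2 * C - (1627 / 29628) * c ^ 2 * L
      + (29965061 / 9066168) * c * A * L - (512686871 / 145058688) * A ^ 2 * L - (681899 /
      503676) * A * B * L + (29965061 / 9066168) * c * C * L - (681899 / 503676) * B * C * L
      + (512686871 / 145058688) * C ^ 2 * L + (238 / 2469) * A * L ^ 2 + (238 / 2469) * C * L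
      ^ 2 + (88748 / 125919) * c * A * M + (412331 / 1511028) * c * B * M + (187942805 /
      290117376) * A * B * M - (45025649 / 96705792) * B ^ 2 * M + (2061089 / 4533084) * c *
      C * M - (15681221 / 16117632) * A * C * M + (20378887 / 145058688) * C ^ 2 * M +
      (596267 / 3022056) * c * L * M + (20192443 / 1511028) * A * L * M - (2321 / 4938) * B *
      L * M + (20226307 / 1511028) * C * L * M + (6235 / 2469) * L ^ 2 * M + (430829 /
      4533084) * c ^ 2 * N + (1361577217 / 290117376) * c * A * N - (15681221 / 16117632) * A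
      ^ 2 * N + (738512 / 1133271) * c * B * N - (587701301 / 290117376) * A * B * N -
      (369256 / 1133271) * B ^ 2 * N + (352986763 / 96705792) * c * C * N + (31236161 /
      290117376) * A * C * N - (493171765 / 290117376) * B * C * N + (18441067 / 17065728) *
      C ^ 2 * N - (17761 / 14814) * c * L * N - (8050025 / 755514) * A * L * N - (7546349 /
      755514) * C * L * N + (177496 / 125919) * A * M * N + (177496 / 125919) * C * M * N -
      (2773 / 9876) * L * M * N + (596165029 / 1740704256) * c ^ 2 + (796506547 / 1740704256)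
      * c * A - (16798933 / 51197184) * c * B + (106407397 / 1740704256) * A * B + (106407397
      / 1740704256) * B ^ 2 + (796506547 / 1740704256) * c * C - (2122 / 7407) * c * L -
      (44373085 / 9066168) * A * L + (1 / 9) * B * L - (44373085 / 9066168) * C * L + (857119
      / 1511028) * c * M - (80801963 / 48352896) * A * M - (1721107343 / 290117376) * B * M +
      (164372329 / 36264672) * C * M - (3071705 / 3022056) * L * M + (2906627 / 3022056) * c
      * N + (730304527 / 290117376) * A * N + (778037 / 2266542) * B * N + (564669551 /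
      290117376) * C * N + (1228 / 823) * L * N + (84125 / 55964) * M * N + (44597933 /
      27198504) * c - (752633377 / 1740704256) * A - (12594883 / 27198504) * B + (1116287197
      / 580234752) * C + (1663 / 29628) * L + (10373453 / 6044112) * M - (20969479 / 9066168)
      * N - (11314885 / 9066168)) * h2 + (-(527815 / 2266542) * c ^ 2 * A * L - (2699635 /
      9066168) * c * A ^ 2 * L + (184628 / 1133271) * c ^ 2 * B * L - (369256 / 1133271) * c
      * B ^ 2 * L + (184628 / 1133271) * B ^ 3 * L - (369256 / 1133271) * c ^ 2 * C * L +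
      (257963 / 251838) * c * B * C * L - (184628 / 377757) * B ^ 2 * C * L - (844643 /
      1133271) * c * C ^ 2 * L + (369256 / 1133271) * B * C ^ 2 * L + (11998 / 7407) * c * A
      * L ^ 2 + (4133 / 4938) * A ^ 2 * L ^ 2 + (841 / 4938) * B * C * L ^ 2 - (841 / 2469) *
      C ^ 2 * L ^ 2 + (2773 / 9876) * A * L ^ 2 * M - (5805791 / 9066168) * c * A ^ 2 * N +
      (206024 / 1133271) * c * A * B * N - (388669375 / 290117376) * A ^ 2 * B * N + (369256
      / 1133271) * c * B ^ 2 * N - (192435907 / 290117376) * A * B ^ 2 * N - (369256 /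
      1133271) * c * A * C * N + (15681221 / 16117632) * A ^ 2 * C * N + (20378887 /
      290117376) * A * B * C * N + (106407397 / 290117376) * B ^ 2 * C * N - (20378887 /
      145058688) * A * C ^ 2 * N - (106407397 / 145058688) * B * C ^ 2 * N - (436777 /
      1511028) * c * A * L * N + (3244 / 7407) * A ^ 2 * L * N + (37 / 3292) * c * B * L * N
      + (225 / 3292) * B ^ 2 * L * N - (74 / 823) * c * C * L * N - (675 / 3292) * B * C * L
      * N - (1229 / 4938) * C ^ 2 * L * N - (6235 / 2469) * A * L ^ 2 * N + (2610863 /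
      13599252) * c ^ 2 * A - (184628 / 1133271) * c ^ 2 * B + (290552641 / 870352128) * c *
      A * B + (369256 / 3399813) * c ^ 2 * C - (458116559 / 1740704256) * c * A * C -
      (49055057 / 580234752) * c * B * C + (49055057 / 290117376) * c * C ^ 2 - (812003 /
      4533084) * c ^ 2 * L - (8758157 / 9066168) * c * A * L - (1214897 / 9066168) * A ^ 2 *
      L + (1100593 / 4533084) * c * B * L - (778037 / 4533084) * B ^ 2 * L - (161278 /
      1133271) * c * C * L + (1807861 / 4533084) * B * C * L - (990299 / 2266542) * C ^ 2 * L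
      - (15869 / 14814) * A * L ^ 2 - (841 / 4938) * C * L ^ 2 - (88748 / 377757) * A * B * M
      - (450061 / 335784) * A * L * M + (1553 / 7407) * B * L * M + (3439 / 14814) * C * L *
      M - (129709 / 1133271) * c * A * N + (459374747 / 290117376) * A ^ 2 * N + (1437499 /
      2266542) * c * B * N + (454697431 / 96705792) * A * B * N - (4263703 / 9066168) * B ^ 2
      * N + (369256 / 1133271) * c * C * N - (967560335 / 290117376) * A * C * N - (24897629
      / 32235264) * B * C * N + (5447489 / 4533084) * C ^ 2 * N - (37 / 823) * c * L * N -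
      (23989 / 755514) * A * L * N + (1129 / 4938) * B * L * N - (2315 / 3292) * C * L * N +
      (109229 / 13599252) * c ^ 2 - (381950561 / 870352128) * c * A + (1856249 / 27198504) *
      c * B + (135454771 / 1740704256) * A * B - (273376 / 1133271) * B ^ 2 - (550176413 /
      1740704256) * c * C + (1018021901 / 1740704256) * B * C - (3367165 / 10745088) * C ^ 2
      - (26437 / 88884) * c * L - (4815875 / 3022056) * A * L + (179 / 29628) * B * L -
      (1599647 / 4533084) * C * L + (88748 / 377757) * A * M - (917815 / 2266542) * B * M +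
      (37 / 1646) * L * M + (16935 / 111928) * c * N + (73136549 / 18132336) * A * N -
      (4588751 / 4533084) * B * N + (8273425 / 9066168) * C * N + (8183 / 14814) * L * N +
      (2000945 / 4533084) * c - (320660449 / 1740704256) * A - (905935 / 3399813) * B +
      (894557185 / 580234752) * C + (20017 / 88884) * L + (84125 / 167892) * M - (295475 /
      4533084) * N + (54781 / 533304)) * h4 + ((852223 / 4533084) * c ^ 2 * A * L + (184628 /
      1133271) * c ^ 2 * B * L - (369256 / 1133271) * c * B ^ 2 * L + (184628 / 1133271) * B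
      ^ 3 * L + (844643 / 2266542) * c * B * C * L - (184628 / 1133271) * B ^ 2 * C * L +
      (11321 / 29628) * c * A * L ^ 2 - (841 / 4938) * A ^ 2 * L ^ 2 - (383 / 9876) * c * C *
      L ^ 2 + (841 / 4938) * B * C * L ^ 2 - (584065 / 9066168) * c * A ^ 2 * N - (109 /
      59256) * c * A * L * N + (1 / 6) * A ^ 2 * L * N + (111 / 3292) * c * C * L * N +
      (480911 / 13599252) * c ^ 2 * A - (184628 / 3399813) * c ^ 2 * B + (16352789 /
      145058688) * c * A * B - (106407397 / 1740704256) * c * A * C + (65649623 / 1740704256)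
      * c * B * C + (170501 / 1133271) * c ^ 2 * L - (437545 / 1133271) * c * B * L + (698987
      / 4533084) * B ^ 2 * L - (2000 / 22221) * c * C * L + (4937 / 88884) * B * C * L +
      (4453 / 14814) * A * L ^ 2 + (247 / 4938) * C * L ^ 2 - (480911 / 4533084) * A * B * M
      - (37 / 1646) * A * L * M + (2773 / 59256) * C * L * M - (24249145 / 145058688) * A ^ 2
      * N + (14 / 7407) * c * C * N - (60377903 / 48352896) * A * C * N - (828395 / 711072) *
      C ^ 2 * N + (37 / 823) * c * L * N + (349 / 19752) * A * L * N + (2657 / 14814) * C * L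
      * N - (66775 / 2266542) * c ^ 2 + (24372353 / 435176064) * c * A - (2680751 / 13599252)
      * c * B + (58765597 / 580234752) * A * B - (450872 / 3399813) * B ^ 2 - (318515393 /
      580234752) * c * C + (391025623 / 1740704256) * B * C - (7337 / 88884) * c * L -
      (803435 / 4533084) * A * L + (2519 / 29628) * B * L - (607 / 44442) * C * L - (88748 /
      377757) * A * M - (23167 / 88884) * B * M - (3439 / 29628) * L * M - (386239 / 2266542)
      * c * N + (129881 / 12088224) * A * N + (2880583 / 36264672) * C * N + (1429 / 4938) *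
      L * N + (702565 / 3399813) * c - (968619841 / 1740704256) * A - (4142405 / 4533084) * B
      + (434788127 / 580234752) * C - (2195 / 88884) * L - (2773 / 88884) * M - (1272055 /
      9066168) * N - (7318933 / 13599252)) * h5 + ((88748 / 41973) * c * A ^ 3 + (595589 /
      503676) * c * A ^ 2 * B + (388669375 / 96705792) * A ^ 3 * B - (3760 / 2469) * c * A *
      B ^ 2 + (290552641 / 48352896) * A ^ 2 * B ^ 2 - (369256 / 377757) * c * B ^ 3 +
      (192435907 / 96705792) * A * B ^ 3 + (2061089 / 1511028) * c * A ^ 2 * C - (15681221 /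
      5372544) * A ^ 3 * C + (369256 / 377757) * c * A * B * C - (302640865 / 96705792) * A ^
      2 * B * C - (31696571 / 24176448) * A * B ^ 2 * C - (106407397 / 96705792) * B ^ 3 * C
      + (20378887 / 48352896) * A ^ 2 * C ^ 2 + (31696571 / 12088224) * A * B * C ^ 2 +
      (106407397 / 48352896) * B ^ 2 * C ^ 2 + (879113 / 1007352) * c * A ^ 2 * L - (8957 /
      4938) * A ^ 3 * L + (834029 / 1007352) * c * A * B * L - (4019 / 4938) * A ^ 2 * B * L
      - (111 / 3292) * c * B ^ 2 * L - (675 / 3292) * A * B ^ 2 * L - (675 / 3292) * B ^ 3 *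
      L + (887 / 4938) * c * A * C * L - A ^ 2 * C * L + (1221 / 3292) * c * B * C * L +
      (2025 / 3292) * A * B * C * L + (2025 / 3292) * B ^ 2 * C * L - (333 / 1646) * c * C ^
      2 * L + (1229 / 1646) * A * C ^ 2 * L + (1229 / 1646) * B * C ^ 2 * L + (6235 / 823) *
      A ^ 2 * L ^ 2 + (6235 / 823) * A * B * L ^ 2 + (928441 / 377757) * c * A ^ 2 -
      (136958819 / 32235264) * A ^ 3 - (10393 / 4938) * c * A * B - (494431985 / 32235264) *
      A ^ 2 * B - (80593 / 27982) * c * B ^ 2 - (3383065 / 316032) * A * B ^ 2 + (4263703 /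
      3022056) * B ^ 3 - (14 / 2469) * c * A * C + (127173595 / 10745088) * A ^ 2 * C -
      (367114 / 377757) * c * B * C + (808992691 / 96705792) * A * B * C + (3677227 /
      3022056) * B ^ 2 * C - (28 / 2469) * c * C ^ 2 + (125773079 / 16117632) * A * C ^ 2 -
      (8774253 / 1790848) * B * C ^ 2 + (828395 / 118512) * C ^ 3 + (879113 / 1007352) * c *
      A * L - (1784669 / 1007352) * A ^ 2 * L + (777 / 3292) * c * B * L - (541595 / 1007352)
      * A * B * L - (2933 / 3292) * B ^ 2 * L - (333 / 3292) * c * C * L + (7237 / 4938) * A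
      * C * L + (8056 / 2469) * B * C * L - (1627 / 4938) * C ^ 2 * L + (6235 / 823) * A * L
      ^ 2 + (23743 / 59256) * c * A - (1584178385 / 96705792) * A ^ 2 - (8666687 / 3022056) *
      c * B - (745826623 / 32235264) * A * B + (13441205 / 3022056) * B ^ 2 + (97 / 2469) * c
      * C + (1035799201 / 96705792) * A * C - (652825 / 3581696) * B * C - (2364311 /
      4029408) * C ^ 2 - (2501321 / 1007352) * A * L - (7283 / 4938) * B * L - (1627 / 9876)
      * C * L + (173221 / 3022056) * c - (139210721 / 12088224) * A + (8496397 / 3022056) * B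
      - (2866427 / 1343136) * C - (6235 / 2469) * L + (1863005 / 3022056)) * h8 + (-(37 /
      3292) * c * L ^ 2 + (238 / 2469) * B * L ^ 2 - (247 / 4938) * L ^ 2) * h7
  simp [nA, nB, nL, n9] at e

/-- The main system with `q = 0`. -/
theorem std_one_zero
    (h0 : a ^ 2 * C - 3 * A ^ 2 * L - 3 * A * C * L = 0)
    (h1 : 3 * B ^ 2 * M - 3 * B * C * M + C = 0)
    (h2 : -a ^ 2 * B + 3 * A ^ 2 * L + 3 * A * B * L - a ^ 2 + 2 * a * A - A ^ 2 - A * B + 3 * A * L = 0)
    (h3 : 2 * a ^ 2 * B - 2 * a ^ 2 * C + 3 * A ^ 2 * L - 3 * A * B * L + 9 * A * C * L - 3 * B * C * L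
      + 6 * C ^ 2 * L - 2 * a ^ 2 + 4 * a * A - 2 * A ^ 2 + 2 * A * B + 4 * a * C - 6 * A * C
      + 2 * B * C - 4 * C ^ 2 + 3 * A * L + 3 * C * L = 0)
    (h4 : 3 * A * N + 3 * B * N + a + 3 * N + 1 = 0)
    (h5 : 3 * A * N - 3 * B * N + 6 * C * N - 2 * a + 3 * N - 2 = 0)
    (h6 : 6 * A * B * M + 6 * B ^ 2 * M + 6 * B * M - A - 1 = 0)
    (h7 : -9 * A * B * M + 9 * B ^ 2 * M + 9 * A * C * M - 27 * B * C * M + 18 * C ^ 2 * M - 9 * B * M
      + 9 * C * M - 2 * A - 2 * C - 2 = 0)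
    (h8 : -L * M + N ^ 2 = 0)
    (nA : A ≠ 0) (nL : L ≠ 0) (nM : M ≠ 0) (n3 : (-1 - A - B) ≠ 0) :
    False := by
  have e : (A ^ 2 * L * M * (-1 - A - B)) = 0 := by
    linear_combination ((5 / 2) * A ^ 3 + (113 / 24) * A ^ 2 * B + (9 / 8) * A * B ^ 2 - (1 / 3) * B ^ 3 + (13 / 8)
      * A ^ 2 * C + (67 / 24) * A * B * C + (5 / 3) * B ^ 2 * C - (7 / 4) * A * C ^ 2 - 3 * B
      * C ^ 2 + (11 / 4) * A ^ 2 + (107 / 12) * A * B + (7 / 8) * B ^ 2 - (9 / 4) * A * C +
      (115 / 24) * B * C - (19 / 4) * C ^ 2 + (1 / 4) * A + (119 / 24) * B - (19 / 8) * C) *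
      h8 + ((11 / 6) * a * B * M - (61 / 54) * A * B * M - (20 / 27) * B ^ 2 * M - (7 / 18) *
      A * C * M - (7 / 9) * C ^ 2 * M - (23 / 24) * A ^ 2 * N - (35 / 72) * A * B * N + (1 /
      9) * B ^ 2 * N - (7 / 12) * A * C * N - (5 / 9) * B * C * N + C ^ 2 * N + (23 / 72) * a
      * A - (1 / 18) * a * B + (1 / 18) * a * C + (19 / 27) * B * M - (7 / 18) * C * M - (13
      / 12) * A * N - (29 / 72) * B * N - (3 / 4) * C * N + (5 / 24) * a + (329 / 648) * A -
      (5 / 54) * B + (1 / 81) * C - (5 / 8) * N + (257 / 648)) * h4 + ((7 / 72) * a ^ 2 + (5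
      / 12) * A * L + (1 / 3) * B * L - (7 / 12) * C * L - (1 / 6) * B * M + (1 / 6) * C * M
      - (49 / 36) * a * N + (41 / 54) * A * N + (41 / 54) * C * N + (47 / 162) * a - (1 / 54)
      * A + (1 / 54) * B - (1 / 27) * C + (17 / 36) * L - (65 / 108) * N + (113 / 648)) * h6
      + ((19 / 18) * a * B * M - (1 / 6) * A * B * M - (1 / 6) * a * C * M + (1 / 6) * A * C
      * M + (1 / 8) * A ^ 2 * N - (5 / 24) * A * C * N + (1 / 12) * a * A - (1 / 54) * a * B
      - (1 / 6) * a * C + (8 / 9) * B * M + A * N + (7 / 24) * C * N + (16 / 81) * A - (1 /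
      18) * B - (1 / 27) * C + (5 / 8) * N + (37 / 324)) * h5 + (-(8 / 27) * a ^ 2 - (19 /
      18) * A * L - (5 / 18) * B * L - (1 / 9) * C * L + (7 / 12) * A * M + (1 / 12) * B * M
      + (1 / 2) * C * M + (16 / 9) * a * N - (1 / 27) * A * N + (20 / 27) * B * N - (7 / 9) *
      C * N - (25 / 54) * a + (1 / 27) * A - (1 / 27) * B + (2 / 27) * C - (10 / 9) * L + (7
      / 12) * M + (47 / 27) * N - (7 / 54)) * h1 + ((1 / 36) * a ^ 2 - (11 / 72) * A * L - (1
      / 6) * B * L + (1 / 12) * B * M + (1 / 18) * a * N + (2 / 27) * A * N + (7 / 162) * a -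
      (1 / 54) * A - (17 / 72) * L + (7 / 54) * N - (1 / 324)) * h7 + (-(5 / 12) * A * M + (1
      / 12) * B * M - (1 / 2) * C * M - (5 / 12) * M) * h0 + (-(1 / 12) * A * M - (1 / 18) *
      B * M - (1 / 12) * M + (1 / 54)) * h3 + ((1 / 6) * A * M - (1 / 6) * B * M + (1 / 3) *
      C * M + (1 / 6) * M + (1 / 54)) * h2
  simp [nA, nL, nM, n3] at e

/-- The main system with `p = q = 0`. -/
theorem std_zero_zero
    (h0 : -3 * A ^ 2 * L - 3 * A * C * L + C = 0)
    (h1 : 3 * B ^ 2 * M - 3 * B * C * M + C = 0)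
    (h2 : 3 * A ^ 2 * L + 3 * A * B * L + 3 * A * L - B - 1 = 0)
    (h3 : 3 * A ^ 2 * L - 3 * A * B * L + 9 * A * C * L - 3 * B * C * L + 6 * C ^ 2 * L + 3 * A * L + 3
      * C * L + 2 * B - 2 * C - 2 = 0)
    (h4 : 3 * A * N + 3 * B * N + 3 * N + 1 = 0)
    (h5 : 3 * A * N - 3 * B * N + 6 * C * N + 3 * N - 2 = 0)
    (h6 : 6 * A * B * M + 6 * B ^ 2 * M + 6 * B * M - A - 1 = 0)
    (h7 : -9 * A * B * M + 9 * B ^ 2 * M + 9 * A * C * M - 27 * B * C * M + 18 * C ^ 2 * M - 9 * B * M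
      + 9 * C * M - 2 * A - 2 * C - 2 = 0)
    (h8 : -L * M + N ^ 2 = 0)
    (nA : A ≠ 0) (nL : L ≠ 0) (n3 : (-1 - A - B) ≠ 0) :
    False := by
  have e : (A * L ^ 2 * (-1 - A - B)) = 0 := by
    linear_combination (-(1 / 3) * L - (1 / 6) * N) * h2 + ((1 / 4) * A * L + (1 / 3) * B * L - (1 / 12) * C * L -
      (7 / 3) * B * M - (23 / 12) * A * N - (5 / 4) * C * N + (1 / 3) * L - (23 / 12) * N -
      (1 / 4)) * h5 + (-(1 / 6) * A * L + (1 / 3) * B * L - (2 / 3) * C * L - (14 / 3) * B *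
      M + (23 / 12) * A * N + (5 / 12) * B * N + (23 / 6) * C * N - (1 / 3) * L + (23 / 12) *
      N - (1 / 2)) * h4 + ((4 / 3) * L - (14 / 3) * N) * h1 + (-(51 / 4) * A * B - (5 / 4) *
      B ^ 2 + (15 / 4) * A * C - (61 / 4) * B * C + (15 / 2) * C ^ 2 - (51 / 4) * B + (15 /
      4) * C) * h8 + (-(3 / 2) * L + (7 / 2) * N) * h6 + ((1 / 12) * N) * h3 + ((5 / 12) * L)
      * h7
  simp [nA, nL, n3] at e

/-- The second system. -/
theorem alt_one_one
    (h0 : a * c - 3 * B * N + a + c + B + 1 = 0)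
    (h1 : -2 * a * c + 6 * A * N + 3 * B * N - 2 * a + 2 * c - 4 * A - 2 * B + 6 * N - 2 = 0)
    (h2 : c ^ 2 * A + c ^ 2 * B - 6 * A * B * M + 2 * c * A + A * B + A = 0)
    (h3 : -2 * c ^ 2 * A - 2 * c ^ 2 * B + 18 * A ^ 2 * M + 9 * A * B * M - 4 * c ^ 2 + 4 * c * A - 4 *
      A ^ 2 - 2 * A * B + 18 * A * M - 2 * A = 0)
    (h4 : -a ^ 2 * A + 3 * A * B * L + 3 * B ^ 2 * L - a ^ 2 - 2 * a * A - 2 * a * B - A * B - B ^ 2 +
      3 * B * L - 2 * a - A - 2 * B - 1 = 0)
    (h5 : 2 * a ^ 2 * A - 6 * A ^ 2 * L - 9 * A * B * L - 3 * B ^ 2 * L + 2 * a ^ 2 + 4 * a * A + 4 * A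
      ^ 2 + 4 * a * B + 6 * A * B + 2 * B ^ 2 - 12 * A * L - 9 * B * L + 4 * a + 6 * A + 4 *
      B - 6 * L + 2 = 0)
    (h6 : -L * M + N ^ 2 = 0)
    (nA : A ≠ 0) (nM : M ≠ 0) (n3 : (-1 - A - B) ≠ 0) :
    False := by
  have e : (A * M * (-1 - A - B)) = 0 := by
    linear_combination (-(1 / 48) * a * c ^ 2 - (1 / 24) * a * c - (1 / 48) * c ^ 2 - (1 / 48) * c * B + (3 / 8) * A
      * M - (1 / 16) * B * M + (1 / 8) * c * N - (1 / 48) * a + (1 / 24) * c - (1 / 12) * A -
      (1 / 48) * B + (1 / 8) * M + (1 / 8) * N - (1 / 48)) * h5 + (-(1 / 12) * a * c ^ 2 - (1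
      / 6) * a * c + (1 / 12) * c ^ 2 - (1 / 6) * c * A - (1 / 12) * c * B + (3 / 4) * A * M
      - (1 / 8) * B * M + (1 / 2) * c * N - (1 / 12) * a + (1 / 6) * c - (1 / 3) * A - (1 /
      12) * B + (1 / 4) * M + (1 / 2) * N - (1 / 12)) * h4 + (-(3 / 8) * a * A ^ 2 * B - (3 /
      16) * a * A * B ^ 2 - (3 / 8) * a * A * B - (3 / 8) * A ^ 2 * B - (9 / 16) * A * B ^ 2
      - (3 / 16) * B ^ 3 - (3 / 4) * A ^ 2 - (3 / 8) * A * B + (9 / 16) * B ^ 2 - (3 / 2) * A
      - (3 / 4)) * h6 + ((1 / 48) * a ^ 2 * c * A - (3 / 16) * c * A * B * L - (3 / 16) * c *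
      B ^ 2 * L + (1 / 24) * a ^ 2 * c + (1 / 48) * a ^ 2 * A + (1 / 24) * a * c * A + (1 /
      16) * a * c * B - (1 / 48) * a * A * B + (1 / 24) * c * A * B + (1 / 24) * c * B ^ 2 +
      (1 / 8) * c * A * L - (1 / 16) * c * B * L - (3 / 16) * A * B * L - (3 / 16) * B ^ 2 *
      L + (1 / 24) * a ^ 2 + (5 / 48) * a * c + (1 / 24) * a * A - (1 / 16) * c * A + (1 /
      16) * a * B - (1 / 48) * c * B + (1 / 48) * A * B + (1 / 48) * B ^ 2 + (1 / 8) * c * L
      + (1 / 8) * A * L - (1 / 16) * B * L + (1 / 8) * A * N + (5 / 48) * a - (1 / 48) * c +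
      (1 / 48) * A + (1 / 12) * B + (1 / 8) * L + (1 / 8) * N + (1 / 16)) * h1 + (-(3 / 8) *
      c * A ^ 2 * L - (9 / 16) * c * A * B * L - (3 / 16) * c * B ^ 2 * L - (1 / 8) * a * A ^
      2 * N - (1 / 16) * a * A * B * N + (1 / 24) * a ^ 2 * c + (1 / 12) * a * c * A - (1 /
      12) * a * A ^ 2 + (1 / 12) * c * A ^ 2 + (1 / 24) * a * c * B - (1 / 24) * a * A * B +
      (1 / 8) * c * A * B + (1 / 24) * c * B ^ 2 - (1 / 4) * c * A * L - (3 / 8) * A ^ 2 * L
      - (1 / 16) * c * B * L - (9 / 16) * A * B * L - (3 / 16) * B ^ 2 * L - (1 / 8) * a * A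
      * N - (1 / 8) * A ^ 2 * N - (3 / 16) * A * B * N - (1 / 16) * B ^ 2 * N + (1 / 24) * a
      ^ 2 + (1 / 8) * a * c + (1 / 24) * a * B - (1 / 24) * c * B + (1 / 8) * c * L - (1 / 4)
      * A * L - (1 / 16) * B * L + (3 / 16) * B * N + (1 / 8) * a - (1 / 6) * c + (1 / 6) * A
      + (1 / 12) * B + (1 / 8) * L + (1 / 8) * N + (1 / 12)) * h0 + ((1 / 4) * a * A * L + (1
      / 8) * a * B * L + (1 / 4) * a * L + (1 / 2) * A * L + (1 / 2) * B * L - (1 / 6) * A -
      (1 / 6) * B + (1 / 2) * L - (1 / 6)) * h2 + ((1 / 16) * a * B * L + (1 / 8) * A * L +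
      (1 / 8) * B * L - (1 / 12) * A - (1 / 12) * B + (1 / 8) * L - (1 / 12)) * h3
  simp [nA, nM, n3] at e

/-- The second system with `p = 0`. -/
theorem alt_zero_one
    (h0 : -3 * B * N + c + 1 = 0)
    (h1 : 6 * A * N + 3 * B * N - 2 * c + 6 * N - 2 = 0)
    (h2 : c ^ 2 * A + c ^ 2 * B - 6 * A * B * M + 2 * c * A + A * B + A = 0)
    (h3 : -2 * c ^ 2 * A - 2 * c ^ 2 * B + 18 * A ^ 2 * M + 9 * A * B * M - 4 * c ^ 2 + 4 * c * A - 4 *
      A ^ 2 - 2 * A * B + 18 * A * M - 2 * A = 0)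
    (h4 : 3 * A * B * L + 3 * B ^ 2 * L + 3 * B * L - A - 1 = 0)
    (h5 : -6 * A ^ 2 * L - 9 * A * B * L - 3 * B ^ 2 * L - 12 * A * L - 9 * B * L + 2 * A - 6 * L + 2 = 0)
    (h6 : -L * M + N ^ 2 = 0)
    (h7 : -3 * A ^ 2 * L - 6 * A * B * L - 3 * B ^ 2 * L + 3 * A * C * L + 3 * B * C * L - 6 * A * L -
      6 * B * L + 3 * C * L + C - 3 * L = 0)
    (h8 : c ^ 2 * C + 3 * A ^ 2 * M - 3 * A * C * M = 0)
    (nB : B ≠ 0) (nL : L ≠ 0) (n3 : (-1 - A - B) ≠ 0) :
    C - A = 1 := by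
  have e : (B * L * (-1 - A - B)) * (C - A - 1) = 0 := by
    linear_combination ((2 / 9) * A - (4 / 9) * C + (2 / 9)) * h4 + (-(2 / 9) * A - (2 / 9)) * h7 + ((1 / 9) * A -
      (1 / 9) * C + (1 / 9)) * h5
  have := (mul_eq_zero.1 e).resolve_left (by simp [nB, nL, n3])
  linear_combination this

/-- The second system with `q = 0`. -/
theorem alt_one_zero
    (h0 : -3 * B * N + a + 1 = 0)
    (h1 : 6 * A * N + 3 * B * N - 2 * a + 6 * N + 2 = 0)
    (h2 : -6 * A * B * M + A + B = 0)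
    (h3 : 18 * A ^ 2 * M + 9 * A * B * M + 18 * A * M - 2 * A - 2 * B - 4 = 0)
    (h4 : -a ^ 2 * A + 3 * A * B * L + 3 * B ^ 2 * L - a ^ 2 - 2 * a * A - 2 * a * B - A * B - B ^ 2 +
      3 * B * L - 2 * a - A - 2 * B - 1 = 0)
    (h5 : 2 * a ^ 2 * A - 6 * A ^ 2 * L - 9 * A * B * L - 3 * B ^ 2 * L + 2 * a ^ 2 + 4 * a * A + 4 * A
      ^ 2 + 4 * a * B + 6 * A * B + 2 * B ^ 2 - 12 * A * L - 9 * B * L + 4 * a + 6 * A + 4 *
      B - 6 * L + 2 = 0)
    (h6 : -L * M + N ^ 2 = 0)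
    (h7 : a ^ 2 * C - 3 * A ^ 2 * L - 6 * A * B * L - 3 * B ^ 2 * L + 3 * A * C * L + 3 * B * C * L - 6
      * A * L - 6 * B * L + 3 * C * L - 3 * L = 0)
    (h8 : 3 * A ^ 2 * M - 3 * A * C * M + C = 0)
    (nA : A ≠ 0) (nM : M ≠ 0) :
    False := by
  have e : (A ^ 4 * M) = 0 := by
    linear_combination ((37789 / 64152) * a ^ 2 + (247 / 216) * a * A - (241 / 108) * A ^ 2 + (3485 / 792) * a * B -
      (493 / 108) * A * B - 2 * B ^ 2 - (247 / 216) * a * C + (247 / 108) * A * C + (1520851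
      / 171072) * A * L + (172207 / 31104) * B * L + (986351 / 42768) * a * N + (1613177 /
      128304) * a - (10559 / 7776) * A - (18547 / 5346) * B + (2717 / 2592) * C - (176537 /
      57024) * L + (998015 / 42768) * N + (520309 / 42768)) * h3 + ((37789 / 42768) * a ^ 2 +
      (20497 / 2376) * a * A - (733 / 72) * A ^ 2 + (3485 / 528) * a * B - (925 / 72) * A * B
      - 3 * B ^ 2 + (247 / 54) * a * C - (247 / 72) * A * C + (2580073 / 85536) * A * L +
      (6307571 / 171072) * B * L + (91141 / 1296) * a * N + (1494421 / 14256) * A * N +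
      (834935 / 28512) * a - (1004093 / 42768) * A - (269275 / 21384) * B - (247 / 144) * C +
      (4630535 / 85536) * L + (251767 / 7128) * N + (433159 / 85536)) * h2 + ((247 / 216) * C
      * M + (2 / 11) * a + (1235 / 864) * A + (371 / 864) * B - (1235 / 864) * C + (140977 /
      42768)) * h5 + (-2 * a * A ^ 2 - a * A * B + (1235 / 432) * a * A * C + (1235 / 864) *
      a * B * C + (12 / 11) * A ^ 2 * L + (18 / 11) * A * B * L + (6 / 11) * B ^ 2 * L -
      (91141 / 648) * a * A * M - (1494421 / 7128) * A ^ 2 * M - (2823589 / 171072) * A ^ 2 *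
      N - (15919709 / 342144) * A * B * N + (247 / 216) * B * C * N - (13465789 / 513216) * a
      * A - (7181 / 792) * A ^ 2 - (166093 / 128304) * a * B - (6829 / 528) * A * B - (6653 /
      1584) * B ^ 2 + (4693 / 1296) * a * C - (1235 / 432) * A * C - (1235 / 864) * B * C +
      (24 / 11) * A * L + (18 / 11) * B * L - (251767 / 3564) * A * M - (10831037 / 171072) *
      A * N + (2675467 / 128304) * a - (997081 / 513216) * A - (271525 / 23328) * B - (1235 /
      432) * C + (12 / 11) * L + (679399 / 128304)) * h0 + ((2699 / 324) * A * M + (247 /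
      108) * C * M + (4 / 11) * a + (371 / 432) * A + (803 / 432) * B - (1235 / 432) * C -
      (242129 / 42768)) * h4 + (-a * A * B + (1235 / 864) * a * B * C + (6 / 11) * A * B * L
      + (6 / 11) * B ^ 2 * L - (986351 / 14256) * a * A * M - (1520851 / 57024) * A ^ 2 * N +
      (247 / 216) * A * C * N - (6301517 / 1026432) * a * A - (166093 / 128304) * a * B -
      (7181 / 1584) * A * B - (6653 / 1584) * B ^ 2 + (247 / 648) * a * C - (1235 / 864) * B
      * C + (6 / 11) * B * L - (998015 / 14256) * A * M + (154937 / 19008) * A * N + (247 /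
      216) * C * N + (986351 / 64152) * a - (5984357 / 1026432) * A - (831203 / 256608) * B -
      (247 / 648) * C + (998015 / 64152)) * h1 + ((1520851 / 9504) * A ^ 3 + (434741 / 14256)
      * A ^ 2 * B - (15919709 / 114048) * A * B ^ 2 - (247 / 36) * A ^ 2 * C - (247 / 72) * A
      * B * C + (247 / 72) * B ^ 2 * C + (132005 / 1188) * A ^ 2 - (6112735 / 28512) * A * B
      - (247 / 18) * A * C - (247 / 72) * B * C - (154937 / 3168) * A - (247 / 36) * C) * h6
      + (-(25 / 33) * a ^ 2 - (247 / 36) * a * A + (247 / 18) * A ^ 2 - (2717 / 216) * a * B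
      + (247 / 18) * A * B - (25 / 11) * A * L - (25 / 11) * B * L - (247 / 36) * a + (27911
      / 1296) * A + (20995 / 2592) * B - (25 / 11) * L + (10127 / 1296)) * h8 + (-(25 / 11) *
      A * M - (1235 / 432) * A + (1235 / 864) * B - (9985 / 4752)) * h7
  simp [nA, nM] at e

/-- The second system with `p = q = 0`. -/
theorem alt_zero_zero
    (h0 : -3 * B * N + 1 = 0)
    (h1 : 6 * A * N + 3 * B * N + 6 * N - 2 = 0)
    (h2 : -6 * A * B * M + A + B = 0)
    (h3 : 18 * A ^ 2 * M + 9 * A * B * M + 18 * A * M - 2 * A - 2 * B - 4 = 0)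
    (h4 : 3 * A * B * L + 3 * B ^ 2 * L + 3 * B * L - A - 1 = 0)
    (h5 : -6 * A ^ 2 * L - 9 * A * B * L - 3 * B ^ 2 * L - 12 * A * L - 9 * B * L + 2 * A - 6 * L + 2 = 0)
    (h6 : -L * M + N ^ 2 = 0)
    (h7 : -3 * A ^ 2 * L - 6 * A * B * L - 3 * B ^ 2 * L + 3 * A * C * L + 3 * B * C * L - 6 * A * L -
      6 * B * L + 3 * C * L + C - 3 * L = 0)
    (h8 : 3 * A ^ 2 * M - 3 * A * C * M + C = 0)
    (nA : A ≠ 0) (nB : B ≠ 0) (nM : M ≠ 0) :
    False := by
  have e : (A * B ^ 2 * M) = 0 := by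
    linear_combination (-(11 / 48) * B - (1 / 8) * C - (1 / 8)) * h2 + (-(5 / 16) * A * B - (7 / 48) * B ^ 2 + (3 /
      16) * B * C - (1 / 4) * B) * h1 + (-(5 / 8) * A ^ 2 - (29 / 48) * A * B - (7 / 48) * B
      ^ 2 + (3 / 8) * A * C + (3 / 16) * B * C - (9 / 8) * A - (13 / 24) * B + (3 / 8) * C -
      (1 / 2)) * h0 + (-(1 / 16) * A - (1 / 24) * B + (1 / 16) * C) * h3 + (-(1 / 3) * A - (1
      / 3)) * h7 + ((1 / 6) * A - (1 / 6) * C + (1 / 6)) * h5 + (-(1 / 6) * A - (1 / 6) * C -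
      (1 / 6)) * h4 + ((3 / 8) * A + (7 / 16) * B + (3 / 8)) * h8
  simp [nA, nB, nM] at e

end Cfsg.Agent.ThreeFullWreath
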