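import Cfsg.Agent.ThreeFullWreath.Model
import Mathlib.Data.Fin.VecNotation

/-!
# Tables for the model
-/

set_option autoImplicit false

namespace Cfsg.Agent.ThreeFullWreath

/-- Representatives of the classes. -/
def rep : Fin 14 → M
  | 0 => ⟨Multiplicative.ofAdd (0, 0, 0), ⟨Multiplicative.ofAdd (0, 0), .r 0⟩⟩
  | 1 => ⟨Multiplicative.ofAdd (0, 0, 1), ⟨Multiplicative.ofAdd (0, 0), .r 0⟩⟩
  | 2 => ⟨Multiplicative.ofAdd (0, 2, 2), ⟨Multiplicative.ofAdd (0, 1), .r 0⟩⟩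
  | 3 => ⟨Multiplicative.ofAdd (0, 1, 1), ⟨Multiplicative.ofAdd (0, 0), .r 0⟩⟩
  | 4 => ⟨Multiplicative.ofAdd (0, 2, 0), ⟨Multiplicative.ofAdd (1, 0), .sr 0⟩⟩
  | 5 => ⟨Multiplicative.ofAdd (2, 2, 1), ⟨Multiplicative.ofAdd (1, 1), .r 0⟩⟩
  | 6 => ⟨Multiplicative.ofAdd (2, 0, 0), ⟨Multiplicative.ofAdd (0, 1), .sr 0⟩⟩
  | 7 => ⟨Multiplicative.ofAdd (2, 1, 0), ⟨Multiplicative.ofAdd (0, 1), .sr 0⟩⟩
  | 8 => ⟨Multiplicative.ofAdd (1, 1, 1), ⟨Multiplicative.ofAdd (0, 0), .r 0⟩⟩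
  | 9 => ⟨Multiplicative.ofAdd (1, 2, 0), ⟨Multiplicative.ofAdd (1, 0), .sr 0⟩⟩
  | 10 => ⟨Multiplicative.ofAdd (1, 0, 2), ⟨Multiplicative.ofAdd (1, 1), .sr 0⟩⟩
  | 11 => ⟨Multiplicative.ofAdd (0, 0, 0), ⟨Multiplicative.ofAdd (0, 0), .r 1⟩⟩
  | 12 => ⟨Multiplicative.ofAdd (1, 0, 0), ⟨Multiplicative.ofAdd (0, 0), .r 1⟩⟩
  | 13 => ⟨Multiplicative.ofAdd (2, 0, 0), ⟨Multiplicative.ofAdd (0, 0), .r 1⟩⟩

/-- Sizes of the classes. -/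
def size : Fin 14 → ℕ
  | 0 => 1
  | 1 => 6
  | 2 => 27
  | 3 => 12
  | 4 => 54
  | 5 => 54
  | 6 => 54
  | 7 => 108
  | 8 => 8
  | 9 => 54
  | 10 => 54
  | 11 => 72
  | 12 => 72
  | 13 => 72

/-- Class numbers, four bits each. -/
def tabC : ℕ := 0x7a9dc597adc5a97dc5666bb87a9cd5a6acb5996bd5677cd87a9bb247abd5497cb5677dc3699bd597acd5aa6cb5767cd8699db5a6abc59a7dc5776dc8699cc247adb54a7bd5777bb3749cb597abb2a47bd5767dc3749bc5a6add2947cb5777bb3749dd247acc2446dc5776cd16aacb5969bd5a97cd5776cd86aabc5a79dc5996db5767dc86aadd2479cb5497bc5777bb379adc5969db5aa6bc5677dc879acd5a79cd59a7cd5666bb879abb2479bc54a7db5677cd374abd5969cc2a47db5777bb374adb5a79bb2947bc5767cd374acc2479dd2446cd5776dc17a4bd5974cb5a97bb2776dc37a4db5a74bd5996cc2777bb37a4cc2464dc5497dd2767cd1794cb5974bc5aa6dd2777bb3794bc5a74db59a7bb2776cd3794dd2464cd54a7cc2767dc1644dc5974dd2a47cc2677cd1644cd5a74cc2947dd2677dc1644bb2464bb2446bb2666bb0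

/-- Conjugators, ten bits each. -/
def tabK : ℕ := 0x2381d06c3f0dc171301912c8110c0f370dd0c0451b40a2683b0fc7b2a003178eb1686f1fc001701906c21348083b01d060750940d2602f1141b064121d8070309f31802130250249922c203b0110185f2d0252c00b0fc4d184041282512ccf0dc06398410903910c02130e50c05e1b0132003709c331200c130e3090271f8113881d168b116815170250782d094041403709c4c064091901704857198083980500c512282d170010005d1b81c1a0430b44b1800a05025024870d84e02089048c910801058dd0d88d0985b0f87f05464068050b0e300cb70785904065030690a8070081d060770904c0387f03c630600b1101718c0f018500204d18c090481f0081100015030640988b03c0300004248dd0783f2b80c37031138811cc141401f084450f4011483b0f07b0c4062501f15c6f07c0b3b03d078210ac03160eb06c75330161a8230901b1e40f2b0130545919c0a37031000532e81b1600506ca52142e208170489330008170e51385813805140350b4391c8093982f0ccd50f4101482b108330c4151d02f0b42707c121601d15c5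20ac0e388e30cc2d150071401f090ab1e0002300b03c571980414011018511d0263880d0e45d2101f1a01f0304b18002008e5000870804d0387d03c6a0b00b0101f00c8d0f0580e0730f0c30c0070682f018710785a02865054690a805050eb024bd0904f020670a863060010c80b1980f0184c03859198090481d0500500c15030670806703003000010d01106c3f13ce40580d13822288ec038133e44527000040474501c124030100516829258e3008010782116cdb028073cc2f1540c0a0233f01b2400f070f50301101ce2058010000b04cf3028f53cc17034241000b3a805004031180112c28138dd010350b439170e10200b42c2e1580f02807468331200c0580d09027140ea0502915c23168e60401742c2d15003088133f01d128000b8fd0481101cdc010050180b04cfe040fd444170341b0e80739005004020080102410021254907d03c0a050e34901336c16038570284f45004008050100d00c10021324d0710540a050dd4d007384160384b0205b4080400800070fd18c0f019244904d19809048f54d0f536c15030630804f3900300000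

/-- The exponents on the elementary group. -/
def muVec : Fin 13 → ZMod 12 × ZMod 12 × ZMod 12
  | 0 => (0, 0, 0)
  | 1 => (0, 0, 0)
  | 2 => (0, 0, 0)
  | 3 => (0, 0, 0)
  | 4 => (0, 4, 0)
  | 5 => (0, 4, 0)
  | 6 => (0, 4, 0)
  | 7 => (4, 8, 4)
  | 8 => (0, 4, 4)
  | 9 => (0, 0, 0)
  | 10 => (4, 0, 0)
  | 11 => (4, 4, 0)
  | 12 => (4, 4, 4)

/-- The subgroups of the complement, as bit sets. -/
def subMask : Fin 13 → ℕ
  | 0 => 16777215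
  | 1 => 1864135
  | 2 => 4527185
  | 3 => 4527185
  | 4 => 4199425
  | 5 => 4199425
  | 6 => 4199425
  | 7 => 1048705
  | 8 => 513
  | 9 => 1
  | 10 => 1
  | 11 => 1
  | 12 => 1

/-- The exponents on the complement, four bits each. -/
def nuTab : Fin 13 → ℕ
  | 0 => 0x0
  | 1 => 0x840000840000840000840
  | 2 => 0x60006000000060006000000
  | 3 => 0x6060000000006060000
  | 4 => 0x30000000006090000000000
  | 5 => 0x90000000006030000000000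
  | 6 => 0x0
  | 7 => 0x400000000000080000000
  | 8 => 0x0
  | 9 => 0x0
  | 10 => 0x0
  | 11 => 0x0
  | 12 => 0x0

/-- Transversals. -/
def cosets : Fin 13 → Finset Q
  | 0 => {⟨Multiplicative.ofAdd (0, 0), .r 0⟩}
  | 1 => {⟨Multiplicative.ofAdd (0, 0), .r 0⟩, ⟨Multiplicative.ofAdd (0, 0), .sr 0⟩}
  | 2 => {⟨Multiplicative.ofAdd (0, 0), .r 0⟩, ⟨Multiplicative.ofAdd (0, 0), .r 1⟩, ⟨Multiplicative.ofAdd (0, 0), .r 2⟩}
  | 3 => {⟨Multiplicative.ofAdd (0, 0), .r 0⟩, ⟨Multiplicative.ofAdd (0, 0), .r 1⟩, ⟨Multiplicative.ofAdd (0, 0), .r 2⟩}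
  | 4 => {⟨Multiplicative.ofAdd (0, 0), .r 0⟩, ⟨Multiplicative.ofAdd (0, 0), .r 1⟩, ⟨Multiplicative.ofAdd (0, 0), .r 2⟩, ⟨Multiplicative.ofAdd (0, 0), .sr 0⟩, ⟨Multiplicative.ofAdd (0, 0), .sr 1⟩, ⟨Multiplicative.ofAdd (0, 0), .sr 2⟩}
  | 5 => {⟨Multiplicative.ofAdd (0, 0), .r 0⟩, ⟨Multiplicative.ofAdd (0, 0), .r 1⟩, ⟨Multiplicative.ofAdd (0, 0), .r 2⟩, ⟨Multiplicative.ofAdd (0, 0), .sr 0⟩, ⟨Multiplicative.ofAdd (0, 0), .sr 1⟩, ⟨Multiplicative.ofAdd (0, 0), .sr 2⟩}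
  | 6 => {⟨Multiplicative.ofAdd (0, 0), .r 0⟩, ⟨Multiplicative.ofAdd (0, 0), .r 1⟩, ⟨Multiplicative.ofAdd (0, 0), .r 2⟩, ⟨Multiplicative.ofAdd (0, 0), .sr 0⟩, ⟨Multiplicative.ofAdd (0, 0), .sr 1⟩, ⟨Multiplicative.ofAdd (0, 0), .sr 2⟩}
  | 7 => {⟨Multiplicative.ofAdd (0, 0), .r 0⟩, ⟨Multiplicative.ofAdd (0, 0), .r 1⟩, ⟨Multiplicative.ofAdd (0, 0), .r 2⟩, ⟨Multiplicative.ofAdd (0, 0), .sr 0⟩, ⟨Multiplicative.ofAdd (0, 0), .sr 1⟩, ⟨Multiplicative.ofAdd (0, 0), .sr 2⟩, ⟨Multiplicative.ofAdd (0, 1), .r 2⟩, ⟨Multiplicative.ofAdd (0, 1), .sr 2⟩}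
  | 8 => {⟨Multiplicative.ofAdd (0, 0), .r 0⟩, ⟨Multiplicative.ofAdd (0, 0), .r 1⟩, ⟨Multiplicative.ofAdd (0, 0), .r 2⟩, ⟨Multiplicative.ofAdd (0, 0), .sr 0⟩, ⟨Multiplicative.ofAdd (0, 0), .sr 1⟩, ⟨Multiplicative.ofAdd (0, 0), .sr 2⟩, ⟨Multiplicative.ofAdd (0, 1), .r 1⟩, ⟨Multiplicative.ofAdd (0, 1), .r 2⟩, ⟨Multiplicative.ofAdd (0, 1), .sr 1⟩, ⟨Multiplicative.ofAdd (0, 1), .sr 2⟩, ⟨Multiplicative.ofAdd (1, 0), .r 0⟩, ⟨Multiplicative.ofAdd (1, 0), .sr 0⟩}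
  | 9 => Finset.univ
  | 10 => Finset.univ
  | 11 => Finset.univ
  | 12 => Finset.univ

/-- The five combinations. -/
def coefs : Fin 5 → Fin 13 → ℤ
  | 0 => ![1, 1, 0, 1, 0, 0, -1, 0, 0, 0, 0, 0, 0]
  | 1 => ![1, 0, 1, 0, 0, 0, 0, 1, -1, 0, 0, 0, 0]
  | 2 => ![0, 1, 0, 0, 1, 0, 0, -1, 0, 0, 0, 0, 0]
  | 3 => ![0, 0, 1, 1, -1, 0, 0, 0, 0, 0, 0, 0, 0]
  | 4 => ![0, 0, 0, 0, 1, -1, 0, 0, 0, 0, 0, 0, 0]

/-- Their values, in the basis `1, √3`. -/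
def vals : Fin 5 → Fin 14 → ℤ × ℤ
  | 0 => ![(0, 0), (3, 0), (0, 0), (6, 0), (0, 0), (3, 0), (0, 0), (0, 0), (9, 0), (3, 0), (3, 0), (0, 0), (0, 0), (0, 0)]
  | 1 => ![(0, 0), (0, 0), (0, 0), (9, 0), (0, 0), (0, 0), (0, 0), (3, 0), (0, 0), (0, 0), (0, 0), (0, 0), (0, 0), (3, 0)]
  | 2 => ![(0, 0), (9, 0), (0, 0), (0, 0), (0, 0), (3, 0), (0, 0), (0, 0), (0, 0), (0, -1), (0, 1), (0, 0), (0, 0), (-3, 0)]
  | 3 => ![(0, 0), (3, 0), (0, 0), (6, 0), (0, 0), (-3, 0), (0, 0), (0, 0), (9, 0), (0, 1), (0, -1), (0, 0), (0, 0), (0, 0)]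
  | 4 => ![(0, 0), (0, 0), (0, 0), (0, 0), (0, 0), (0, 0), (0, 0), (0, 0), (0, 0), (0, -2), (0, 2), (0, 0), (0, 0), (0, 0)]

/-- Values of the inductions from the elementary group. -/
def jvals : Fin 4 → Fin 14 → ℤ
  | 0 => ![24, 24, 0, 24, 0, 0, 0, 0, 24, 0, 0, 0, 0, 0]
  | 1 => ![24, 12, 0, 0, 0, 0, 0, 0, -12, 0, 0, 0, 0, 0]
  | 2 => ![24, 0, 0, -6, 0, 0, 0, 0, 6, 0, 0, 0, 0, 0]
  | 3 => ![24, -12, 0, 6, 0, 0, 0, 0, -3, 0, 0, 0, 0, 0]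

end Cfsg.Agent.ThreeFullWreath
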