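import Mathlib.GroupTheory.SemidirectProduct
import Mathlib.GroupTheory.SpecificGroups.Dihedral
import Mathlib.GroupTheory.Perm.Basic
import Mathlib.Data.ZMod.Basic

/-!
# A model of the normalizer in `Alt(9)` of an elementary group of order twenty-seven
-/

set_option autoImplicit false

namespace Cfsg.Agent.ThreeFullWreath

/-- Signs with product one. -/
abbrev V4 : Type := Multiplicative (ZMod 2 × ZMod 2)

/-- The third coordinate. -/
def dl (v : ZMod 2 × ZMod 2) : Fin 3 → ZMod 2
  | 0 => v.1
  | 1 => v.2
  | 2 => v.1 + v.2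

/-- The permutation of the three blocks. -/
def blk : DihedralGroup 3 → Fin 3 → Fin 3
  | .r i, k => k + (show Fin 3 from i)
  | .sr i, k => -(k + (show Fin 3 from i))

/-- Its inverse. -/
def blkInv : DihedralGroup 3 → Fin 3 → Fin 3
  | .r i, k => k - (show Fin 3 from i)
  | .sr i, k => -k - (show Fin 3 from i)

/-- The sign of a block permutation. -/
def sgn : DihedralGroup 3 → ZMod 3
  | .r _ => 1
  | .sr _ => -1

/-- The block permutations act on signs. -/
def psiFun (x : DihedralGroup 3) (v : V4) : V4 :=
  Multiplicative.ofAdd (dl v.toAdd (blkInv x 0), dl v.toAdd (blkInv x 1))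

theorem psiFun_one : ∀ v, psiFun 1 v = v := by decide +kernel

theorem psiFun_mul : ∀ x y v, psiFun (x * y) v = psiFun x (psiFun y v) := by decide +kernel

theorem psiFun_hom : ∀ x v w, psiFun x (v * w) = psiFun x v * psiFun x w := by decide +kernel

/-- The action on signs. -/
def psi : DihedralGroup 3 →* MulAut V4 where
  toFun x :=
    { toFun := psiFun x
      invFun := psiFun x⁻¹
      left_inv := fun v => by rw [← psiFun_mul, inv_mul_cancel, psiFun_one]
      right_inv := fun v => by rw [← psiFun_mul, mul_inv_cancel, psiFun_one]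
      map_mul' := psiFun_hom x }
  map_one' := MulEquiv.ext psiFun_one
  map_mul' x y := MulEquiv.ext (psiFun_mul x y)

/-- The complement, of order twenty-four. -/
abbrev Q : Type := V4 ⋊[psi] DihedralGroup 3

instance instFintypeQ : Fintype Q := Fintype.ofEquiv _ SemidirectProduct.equivProd.symm

/-- The elementary group of order twenty-seven. -/
abbrev A : Type := Multiplicative (ZMod 3 × ZMod 3 × ZMod 3)

/-- A coordinate. -/
def get (t : ZMod 3 × ZMod 3 × ZMod 3) : Fin 3 → ZMod 3
  | 0 => t.1
  | 1 => t.2.1
  | 2 => t.2.2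

/-- The sign change attached to a sign. -/
def neg2 (d : ZMod 2) (y : ZMod 3) : ZMod 3 := if d = 0 then y else -y

/-- A coordinate of the transformed vector. -/
def actCoord (q : Q) (t : A) (k : Fin 3) : ZMod 3 :=
  neg2 (dl q.left.toAdd k) (sgn q.right * get t.toAdd (blkInv q.right k))

/-- The action on the elementary group. -/
def actFun (q : Q) (t : A) : A :=
  Multiplicative.ofAdd (actCoord q t 0, actCoord q t 1, actCoord q t 2)

theorem actFun_one : ∀ t, actFun 1 t = t := by decide +kernel

theorem actFun_mul : ∀ x y t, actFun (x * y) t = actFun x (actFun y t) := by decide +kernel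

theorem actFun_hom : ∀ x t u, actFun x (t * u) = actFun x t * actFun x u := by decide +kernel

/-- The action on the elementary group, as a homomorphism. -/
def theta : Q →* MulAut A where
  toFun x :=
    { toFun := actFun x
      invFun := actFun x⁻¹
      left_inv := fun v => by rw [← actFun_mul, inv_mul_cancel, actFun_one]
      right_inv := fun v => by rw [← actFun_mul, mul_inv_cancel, actFun_one]
      map_mul' := actFun_hom x }
  map_one' := MulEquiv.ext actFun_one
  map_mul' x y := MulEquiv.ext (actFun_mul x y)

/-- The model, of order `648`. -/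
abbrev M : Type := A ⋊[theta] Q

instance instFintypeM : Fintype M := Fintype.ofEquiv _ SemidirectProduct.equivProd.symm

/-- The block and the centred coordinate of a point. -/
def pt (p : Fin 9) : Fin 3 × ZMod 3 :=
  (⟨p.val / 3, by omega⟩, (((p.val + 1) % 3 : ℕ) : ZMod 3))

/-- The point with given block and centred coordinate. -/
def ofPt (b : Fin 3) (y : ZMod 3) : Fin 9 := ⟨3 * b.val + (y.val + 2) % 3, by omega⟩

/-- The translation attached to a vector. -/
def transFun (t : A) (p : Fin 9) : Fin 9 := ofPt (pt p).1 (get t.toAdd (pt p).1 + (pt p).2)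

/-- The monomial transformation attached to an element of the complement. -/
def monFun (q : Q) (p : Fin 9) : Fin 9 :=
  ofPt (blk q.right (pt p).1) (neg2 (dl q.left.toAdd (blk q.right (pt p).1)) (sgn q.right * (pt p).2))

theorem transFun_one : ∀ p, transFun 1 p = p := by decide +kernel

theorem transFun_mul : ∀ t u p, transFun (t * u) p = transFun t (transFun u p) := by decide +kernel

theorem monFun_one : ∀ p, monFun 1 p = p := by decide +kernel

theorem monFun_mul : ∀ x y p, monFun (x * y) p = monFun x (monFun y p) := by decide +kernel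

/-- Translations. -/
def transPerm : A →* Equiv.Perm (Fin 9) where
  toFun t :=
    { toFun := transFun t
      invFun := transFun t⁻¹
      left_inv := fun p => by rw [← transFun_mul, inv_mul_cancel, transFun_one]
      right_inv := fun p => by rw [← transFun_mul, mul_inv_cancel, transFun_one] }
  map_one' := Equiv.ext transFun_one
  map_mul' x y := Equiv.ext (transFun_mul x y)

/-- Monomial transformations. -/
def monPerm : Q →* Equiv.Perm (Fin 9) where
  toFun q :=
    { toFun := monFun q
      invFun := monFun q⁻¹
      left_inv := fun p => by rw [← monFun_mul, inv_mul_cancel, monFun_one]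
      right_inv := fun p => by rw [← monFun_mul, mul_inv_cancel, monFun_one] }
  map_one' := Equiv.ext monFun_one
  map_mul' x y := Equiv.ext (monFun_mul x y)

theorem mon_trans : ∀ q t p, monFun q (transFun t p) = transFun (actFun q t) (monFun q p) := by
  decide +kernel

/-- The model as permutations of nine points. -/
def perm : M →* Equiv.Perm (Fin 9) :=
  SemidirectProduct.lift transPerm monPerm fun q => by
    refine MonoidHom.ext fun t => Equiv.ext fun p => ?_
    show transFun (actFun q t) p = monFun q (transFun t ((monPerm q).symm p))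
    rw [mon_trans]
    exact congrArg (transFun (actFun q t)) ((monPerm q).apply_symm_apply p).symm

/-- A translation. -/
def ge : M := SemidirectProduct.inl (Multiplicative.ofAdd (1, 0, 0))
/-- The cycle of the blocks. -/
def gc : M := SemidirectProduct.inr (SemidirectProduct.inr (.r 1))
/-- Two sign changes. -/
def gd : M := SemidirectProduct.inr (SemidirectProduct.inl (Multiplicative.ofAdd (1, 1)))
/-- An exchange of two blocks. -/
def gt : M :=
  SemidirectProduct.inr (SemidirectProduct.inl (Multiplicative.ofAdd (1, 1)) * SemidirectProduct.inr (.sr 2))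

/-- The group of the statement. -/
def K : Subgroup (Equiv.Perm (Fin 9)) :=
  Subgroup.closure ({Equiv.swap (0 : Fin 9) 1 * Equiv.swap 1 2,
        Equiv.swap (0 : Fin 9) 3 * Equiv.swap 3 6 * (Equiv.swap (1 : Fin 9) 4 * Equiv.swap 4 7) * (Equiv.swap (2 : Fin 9) 5 * Equiv.swap 5 8),
        Equiv.swap (0 : Fin 9) 1 * Equiv.swap 3 4, Equiv.swap (0 : Fin 9) 3 * Equiv.swap 1 4 * Equiv.swap 2 5 * Equiv.swap 6 7} : Set (Equiv.Perm (Fin 9)))

theorem perm_gens : ∀ p : Fin 9,
    perm ge p = (Equiv.swap (0 : Fin 9) 1 * Equiv.swap 1 2 : Equiv.Perm (Fin 9)) p ∧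
    perm gc p = (Equiv.swap (0 : Fin 9) 3 * Equiv.swap 3 6 * (Equiv.swap (1 : Fin 9) 4 * Equiv.swap 4 7) *
      (Equiv.swap (2 : Fin 9) 5 * Equiv.swap 5 8) : Equiv.Perm (Fin 9)) p ∧
    perm gd p = (Equiv.swap (0 : Fin 9) 1 * Equiv.swap 3 4 : Equiv.Perm (Fin 9)) p ∧
    perm gt p = (Equiv.swap (0 : Fin 9) 3 * Equiv.swap 1 4 * Equiv.swap 2 5 * Equiv.swap 6 7 :
      Equiv.Perm (Fin 9)) p := by
  decide +kernel

/-- A word in the generators reaching a translation. -/
def wordA (t : A) : M :=
  ge ^ t.toAdd.1.val * (gc * ge * gc⁻¹) ^ t.toAdd.2.1.val *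
    (gc * gc * ge * (gc * gc)⁻¹) ^ t.toAdd.2.2.val

theorem wordA_eq : ∀ t, wordA t = SemidirectProduct.inl t := by decide +kernel

theorem wordQ_eq : ∀ q : Q, ∃ a b c : Fin 3, ∃ e : Fin 2,
    (gd ^ (a : ℕ) * (gc * gd * gc⁻¹) ^ (b : ℕ) * gc ^ (c : ℕ) * gt ^ (e : ℕ) : M) =
      SemidirectProduct.inr q := by
  decide +kernel

theorem closure_gens : Subgroup.closure ({ge, gc, gd, gt} : Set M) = ⊤ := by
  set S := Subgroup.closure ({ge, gc, gd, gt} : Set M)
  have h : ∀ x ∈ ({ge, gc, gd, gt} : Set M), x ∈ S := fun x hx => Subgroup.subset_closure hx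
  have he := h ge (by simp)
  have hc := h gc (by simp)
  have hd := h gd (by simp)
  have ht := h gt (by simp)
  refine eq_top_iff.2 fun m _ => ?_
  rw [← SemidirectProduct.inl_left_mul_inr_right m]
  refine mul_mem ?_ ?_
  · rw [← wordA_eq]
    exact mul_mem (mul_mem (pow_mem he _) (pow_mem (mul_mem (mul_mem hc he) (inv_mem hc)) _))
      (pow_mem (mul_mem (mul_mem (mul_mem hc hc) he) (inv_mem (mul_mem hc hc))) _)
  · obtain ⟨a, b, c, e, hq⟩ := wordQ_eq m.right
    rw [← hq]
    exact mul_mem (mul_mem (mul_mem (pow_mem hd _) (pow_mem (mul_mem (mul_mem hc hd) (inv_mem hc)) _))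
      (pow_mem hc _)) (pow_mem ht _)

theorem perm_injective : Function.Injective perm := by
  rw [injective_iff_map_eq_one]
  have h : ∀ m : M, (∀ p, perm m p = p) → m = 1 := by decide +kernel
  exact fun m hm => h m fun p => by rw [hm]; rfl

/-- The model is the group of the statement. -/
theorem perm_range : perm.range = K := by
  rw [MonoidHom.range_eq_map, ← closure_gens, MonoidHom.map_closure, K]
  congr 1
  simp only [Set.image_insert_eq, Set.image_singleton,
    Equiv.ext fun p => (perm_gens p).1, Equiv.ext fun p => (perm_gens p).2.1,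
    Equiv.ext fun p => (perm_gens p).2.2.1, Equiv.ext fun p => (perm_gens p).2.2.2]

/-- The identification. -/
noncomputable def equivK : M ≃* K :=
  (MonoidHom.ofInjective perm_injective).trans (MulEquiv.subgroupCongr perm_range)

end Cfsg.Agent.ThreeFullWreath
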