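import Cfsg.Agent.ThreeFullWreath.Arith

/-!
# The supports of the first four combinations
-/

set_option autoImplicit false

namespace Cfsg.Agent.ThreeFullWreath

universe u

variable {ι : Type u} [Fintype ι] {o : ι} {c : Fin 5 → ι → ℤ} {d U V : ι → ℚ} {L M N : ℚ}

theorem term_sq {k : ℤ} {σ : ℤ} (hσ : σ = 1 ∨ σ = -1) {ε y y' e : ℚ} (hk : (k : ℚ) = ε * σ) :
    (k : ℚ) * (y * y' / e) = ε * ((σ * y) * (σ * y') / (σ * e)) ∧ (k : ℚ) * y = ε * (σ * y) := by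
  rcases hσ with rfl | rfl <;> simp [hk]
  ring

theorem Data.sum_shift (h : Data o c d U V L M N) (k : Fin 5) (r : ℚ) :
    ∑ x, (c k x : ℚ) * (U x - r * d x) = 0 ∧ ∑ x, (c k x : ℚ) * (V x - r * d x) = 0 := by
  have e : ∀ (f : ι → ℚ), ∑ x, (c k x : ℚ) * (f x - r * d x) =
      (∑ x, (c k x : ℚ) * f x) - r * ∑ x, (c k x : ℚ) * d x := fun f => by
    rw [Finset.mul_sum, ← Finset.sum_sub_distrib]
    exact Finset.sum_congr rfl fun x _ => by ring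
  rw [e, e, h.su, h.sv, h.sd]
  constructor <;> ring

theorem Data.sum_shift2 (h : Data o c d U V L M N) (k : Fin 4) (r s : ℚ) :
    ∑ x, (c k.castSucc x : ℚ) * ((U x - r * d x) * (U x - r * d x) / d x) = tUU k * L ∧
    ∑ x, (c k.castSucc x : ℚ) * ((U x - r * d x) * (V x - s * d x) / d x) = tUV k * N ∧
    ∑ x, (c k.castSucc x : ℚ) * ((V x - s * d x) * (V x - s * d x) / d x) = tVV k * M := by
  have e : ∀ (f g : ι → ℚ) (a b : ℚ),
      ∑ x, (c k.castSucc x : ℚ) * ((f x - a * d x) * (g x - b * d x) / d x) =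
      (∑ x, (c k.castSucc x : ℚ) * (f x * g x / d x)) - a * (∑ x, (c k.castSucc x : ℚ) * g x)
        - b * (∑ x, (c k.castSucc x : ℚ) * f x) + a * b * ∑ x, (c k.castSucc x : ℚ) * d x := by
    intro f g a b
    simp only [Finset.mul_sum, ← Finset.sum_sub_distrib, ← Finset.sum_add_distrib]
    refine Finset.sum_congr rfl fun x _ => ?_
    have := h.d_ne x
    field_simp
    ring
  refine ⟨?_, ?_, ?_⟩ <;> rw [e, h.sd] <;> simp only [h.su, h.sv, h.suu, h.suv, h.svv] <;> ring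

/-- The supports of the combinations `0`, `2` and `3`. -/
structure Shape (o : ι) (c : Fin 5 → ι → ℤ) (d U V : ι → ℚ) (r s : ℚ)
    (w P₁ P₉ Q₂ Q₇ R : ι) : Prop where
  s2 : Supp3 o (c 2) w P₁ P₉
  s3 : Supp3 o (c 3) w Q₂ Q₇
  s0 : Supp3 o (c 0) P₁ Q₂ R
  cw : c 3 w = -c 2 w
  cP : c 0 P₁ = c 2 P₁
  cQ : c 0 Q₂ = c 3 Q₂
  nR : R ≠ w ∧ R ≠ P₁ ∧ R ≠ P₉ ∧ R ≠ Q₂ ∧ R ≠ Q₇
  nPQ : P₁ ≠ Q₂ ∧ P₁ ≠ Q₇ ∧ P₉ ≠ Q₂ ∧ P₉ ≠ Q₇
  zw : U w = r * d w ∧ V w = s * d w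
  zQ : U Q₂ = r * d Q₂ ∧ U Q₇ = r * d Q₇
  eP : V P₁ = s * d P₁ ∧ V P₉ = s * d P₉

theorem Supp3.abs_sum_le {f : ι → ℤ} {a b e : ι} (h : Supp3 o f a b e) (S : Finset ι) (hS : o ∉ S) :
    ∑ x ∈ S, (f x).natAbs ≤ 3 := by
  classical
  have h1 : ∑ x ∈ S, (f x).natAbs = ∑ x ∈ S.filter (fun x => f x ≠ 0), (f x).natAbs := by
    refine (Finset.sum_filter_of_ne fun x _ hx => ?_).symm
    intro e; simp [e] at hx
  have h2 : S.filter (fun x => f x ≠ 0) ⊆ {a, b, e} := fun x hx => by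
    obtain ⟨hxS, hx0⟩ := Finset.mem_filter.1 hx
    simp only [Finset.mem_insert, Finset.mem_singleton]
    by_contra hn
    simp only [not_or] at hn
    exact hx0 (h.off x (fun e => hS (e ▸ hxS)) hn.1 hn.2.1 hn.2.2)
  rw [h1]
  refine (Finset.sum_le_sum_of_subset h2).trans ?_
  rw [Finset.sum_insert (by simp [h.ab, h.ae]), Finset.sum_insert (by simp [h.be]), Finset.sum_singleton]
  have := h.fa; have := h.fb; have := h.fe
  omega

theorem Supp3.abs_five {f : ι → ℤ} {a b e : ι} (h : Supp3 o f a b e) {p q r s t : ι}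
    (h1 : p ≠ o) (h2 : q ≠ o) (h3 : r ≠ o) (h4 : s ≠ o) (h5 : t ≠ o)
    (d1 : p ≠ q) (d2 : p ≠ r) (d3 : p ≠ s) (d4 : p ≠ t) (d5 : q ≠ r) (d6 : q ≠ s) (d7 : q ≠ t)
    (d8 : r ≠ s) (d9 : r ≠ t) (d10 : s ≠ t) :
    (f p).natAbs + ((f q).natAbs + ((f r).natAbs + ((f s).natAbs + (f t).natAbs))) ≤ 3 := by
  classical
  refine le_of_eq_of_le ?_ (h.abs_sum_le {p, q, r, s, t}
    (by simp [h1.symm, h2.symm, h3.symm, h4.symm, h5.symm]))
  rw [Finset.sum_insert (by simp [d1, d2, d3, d4]), Finset.sum_insert (by simp [d5, d6, d7]),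
    Finset.sum_insert (by simp [d8, d9]), Finset.sum_insert (by simp [d10]), Finset.sum_singleton]

theorem Supp3.bound {f : ι → ℤ} {a b e x : ι} (h : Supp3 o f a b e) (hx : x ≠ o) :
    f x = 0 ∨ f x = 1 ∨ f x = -1 := by
  by_cases h1 : x = a
  · exact Or.inr (h1 ▸ h.fa)
  by_cases h2 : x = b
  · exact Or.inr (h2 ▸ h.fb)
  by_cases h3 : x = e
  · exact Or.inr (h3 ▸ h.fe)
  exact Or.inl (h.off x hx h1 h2 h3)

theorem Data.exists_shape (h : Data o c d U V L M N) :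
    ∃ r s w P₁ P₉ Q₂ Q₇ R, Shape o c d U V r s w P₁ P₉ Q₂ Q₇ R := by
  classical
  obtain ⟨a, b, e, h2⟩ := exists_supp3 o (c 2) (by rw [h.gram, h.co]; rfl)
  obtain ⟨a', b', e', h3⟩ := exists_supp3 o (c 3) (by rw [h.gram, h.co]; rfl)
  have c2o : c 2 o = 0 := h.co 2
  have c3o : c 3 o = 0 := h.co 3
  -- proportionality on a support
  have key : ∀ (k : Fin 4) (f : ι → ℚ), c k.castSucc o = 0 →
      (∑ x, (c k.castSucc x : ℚ) * f x = 0) → (∑ x, (c k.castSucc x : ℚ) * (f x * f x / d x) = 0) →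
      ∀ {x y z : ι}, Supp3 o (c k.castSucc) x y z →
        ∃ r : ℚ, f x = r * d x ∧ f y = r * d y ∧ f z = r * d z := by
    intro k f hko hf hff x y z hs
    have hd := h.sd k.castSucc
    rw [hs.sum] at hd hf hff
    simp only [hko, Int.cast_zero, zero_mul, zero_add] at hd hf hff
    set i : ℚ := ((c k.castSucc x : ℤ) : ℚ)
    set j : ℚ := ((c k.castSucc y : ℤ) : ℚ)
    set l : ℚ := ((c k.castSucc z : ℤ) : ℚ)
    have si : i * i = 1 := sq_sign hs.fa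
    have sj : j * j = 1 := sq_sign hs.fb
    have sl : l * l = 1 := sq_sign hs.fe
    have ni : i ≠ 0 := fun e => by simp [e] at si
    have nj : j ≠ 0 := fun e => by simp [e] at sj
    have nl : l ≠ 0 := fun e => by simp [e] at sl
    have hi : i⁻¹ = i := inv_eq_of_mul_eq_one_right si
    have hj : j⁻¹ = j := inv_eq_of_mul_eq_one_right sj
    have hl : l⁻¹ = l := inv_eq_of_mul_eq_one_right sl
    obtain ⟨p2, p3⟩ := prop3 (D₁ := i * d x) (D₂ := j * d y) (D₃ := l * d z) (u₁ := i * f x)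
      (u₂ := j * f y) (u₃ := l * f z) (mul_ne_zero ni (h.d_ne x)) (mul_ne_zero nj (h.d_ne y))
      (mul_ne_zero nl (h.d_ne z)) hd hf (by
        rw [← hff]
        have := h.d_ne x; have := h.d_ne y; have := h.d_ne z
        field_simp)
    rw [mul_div_mul_left _ _ ni] at p2 p3
    refine ⟨f x / d x, by field_simp [h.d_ne x], ?_, ?_⟩
    · exact mul_left_cancel₀ nj (by linear_combination p2)
    · exact mul_left_cancel₀ nl (by linear_combination p3)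
  obtain ⟨r, ra, rb, re⟩ := key 3 U c3o (h.su _) (by rw [h.suu]; simp [tUU]) h3
  obtain ⟨s, sa, sb, se⟩ := key 2 V c2o (h.sv _) (by rw [h.svv]; simp [tVV]) h2
  have hz3 : ∀ x, x ≠ o → c 3 x ≠ 0 → U x = r * d x := fun x hxo hx => by
    by_contra hne
    exact hx (h3.off x hxo (fun e => hne (e ▸ ra)) (fun e => hne (e ▸ rb)) (fun e => hne (e ▸ re)))
  have he2 : ∀ x, x ≠ o → c 2 x ≠ 0 → V x = s * d x := fun x hxo hx => by
    by_contra hne
    exact hx (h2.off x hxo (fun e => hne (e ▸ sa)) (fun e => hne (e ▸ sb)) (fun e => hne (e ▸ se)))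
  -- the two supports share exactly one point
  have h23 := h.gram 2 3
  have exw : ∃ w, w ≠ o ∧ c 2 w ≠ 0 ∧ c 3 w ≠ 0 := by
    by_contra hn
    simp only [not_exists, not_and, ne_eq, not_not] at hn
    rw [Finset.sum_eq_zero fun x _ => ?_] at h23
    · simp [gm] at h23
    by_cases hxo : x = o
    · subst hxo; simp [c2o]
    by_cases hx : c 2 x = 0
    · simp [hx]
    · simp [hn x hxo hx]
  obtain ⟨w, hwo, hw2, hw3⟩ := exw
  obtain ⟨P, P', g2⟩ := h2.rotate hwo hw2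
  obtain ⟨Q, Q', g3⟩ := h3.rotate hwo hw3
  have nz2 : ∀ {x}, (c 2 x = 1 ∨ c 2 x = -1) → c 2 x ≠ 0 := fun {x} e => by omega
  have nz3 : ∀ {x}, (c 3 x = 1 ∨ c 3 x = -1) → c 3 x ≠ 0 := fun {x} e => by omega
  have once : ∀ x y, Supp3 o (c 2) w x y → c 3 x = 0 := by
    intro x y g
    by_contra hx
    have h0 := (h.sum_shift 2 r).1
    rw [g.sum] at h0
    rw [c2o, hz3 w hwo hw3, hz3 x g.bo hx] at h0
    have hy : U y = r * d y := by
      have : (c 2 y : ℚ) * (U y - r * d y) = 0 := by simpa using h0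
      rcases mul_eq_zero.1 this with e | e
      · exact absurd (Int.cast_eq_zero.1 e) (nz2 g.fe)
      · linarith
    have hL := (h.sum_shift2 2 r r).1
    rw [show (2 : Fin 4).castSucc = 2 from rfl, g.sum, c2o, hz3 w hwo hw3, hz3 x g.bo hx, hy] at hL
    simp [tUU, h.L_ne] at hL
  have cP := once P P' g2
  have cP' := once P' P g2.swap23
  have off3 : ∀ x, x ≠ w → (c 2 x ≠ 0) → x ≠ o → c 3 x = 0 := fun x hxw hx hxo => by
    by_cases h1 : x = P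
    · rw [h1, cP]
    by_cases h2' : x = P'
    · rw [h2', cP']
    exact absurd (g2.off x hxo hxw h1 h2') hx
  have cQ : c 2 Q = 0 := by
    by_contra hx
    exact nz3 g3.fb (off3 Q g3.ab.symm hx g3.bo)
  have cQ' : c 2 Q' = 0 := by
    by_contra hx
    exact nz3 g3.fe (off3 Q' g3.ae.symm hx g3.eo)
  have hw23 : c 3 w = -c 2 w := by
    have h' := h.gram 2 3
    rw [show ∑ x, c 2 x * c 3 x = ∑ x, (c 2 x : ℤ) * c 3 x from rfl] at h'
    have := g2.sum (R := ℤ) (c 3)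
    simp only [Int.cast_id] at this
    rw [this, c2o, cP, cP'] at h'
    simp [gm] at h'
    rcases g2.fa with e | e <;> rw [e] at h' ⊢ <;> omega
  -- the combination `0`
  obtain ⟨a₀, b₀, e₀, h0⟩ := exists_supp3 o (c 0) (by rw [h.gram, h.co]; rfl)
  have sums : ∀ {x y z : ι} (k : Fin 5), Supp3 o (c k) x y z → c k o = 0 →
      ∑ v, c k v * c 0 v = c k x * c 0 x + c k y * c 0 y + c k z * c 0 z := by
    intro x y z k g hk
    have := g.sum (R := ℤ) (c 0)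
    simp only [Int.cast_id] at this
    rw [this, hk]; ring
  have e20 := (sums 2 g2 c2o).symm.trans (h.gram 2 0)
  have e30 := (sums 3 g3 c3o).symm.trans (h.gram 3 0)
  have npq : P ≠ Q ∧ P ≠ Q' ∧ P' ≠ Q ∧ P' ≠ Q' :=
    ⟨fun e => nz2 g2.fb (e ▸ cQ), fun e => nz2 g2.fb (e ▸ cQ'), fun e => nz2 g2.fe (e ▸ cQ),
      fun e => nz2 g2.fe (e ▸ cQ')⟩
  have five := h0.abs_five hwo g2.bo g2.eo g3.bo g3.eo g2.ab g2.ae g3.ab g3.ae g2.be npq.1 npq.2.1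
    npq.2.2.1 npq.2.2.2 g3.be
  have c0o : c 0 o = 1 := h.co 0
  have bw := h0.bound hwo
  have bP := h0.bound g2.bo
  have bP' := h0.bound g2.eo
  have bQ := h0.bound g3.bo
  have bQ' := h0.bound g3.eo
  have hw0 : c 0 w = 0 := by
    have hcases : (c 0 w ≠ 0 ∧ c 0 P = 0 ∧ c 0 P' = 0 ∧ c 0 Q ≠ 0 ∧ c 0 Q' ≠ 0) ∨
        (c 0 w ≠ 0 ∧ c 0 P ≠ 0 ∧ c 0 P' ≠ 0 ∧ c 0 Q = 0 ∧ c 0 Q' = 0) ∨ c 0 w = 0 := by
      simp [gm, hw23] at e20 e30
      by_cases hz : c 0 w = 0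
      · exact Or.inr (Or.inr hz)
      have hw1 : c 0 w = 1 ∨ c 0 w = -1 := by omega
      rcases g2.fa with e1 | e1 <;> rcases g2.fb with e2 | e2 <;> rcases g2.fe with e3 | e3 <;>
        rcases g3.fb with e4 | e4 <;> rcases g3.fe with e5 | e5 <;>
        simp only [e1, e2, e3, e4, e5, one_mul, neg_mul, neg_neg] at e20 e30 <;>
        rcases hw1 with hw1 | hw1 <;> rw [hw1] at e20 e30 five <;>
        first
          | (left; refine ⟨hz, ?_, ?_, ?_, ?_⟩ <;> omega)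
          | (right; left; refine ⟨hz, ?_, ?_, ?_, ?_⟩ <;> omega)
    rcases hcases with ⟨hw', hp, hp', hq, hq'⟩ | ⟨hw', hp, hp', hq, hq'⟩ | hw'
    · exfalso
      obtain ⟨z, hz⟩ := h0.rotate2 hwo hw' g3.bo hq g3.ab
      have hzQ : z = Q' := by
        by_contra hne
        exact hq' (hz.off Q' g3.eo g3.ae.symm g3.be.symm (Ne.symm hne))
      subst hzQ
      have uw := hz3 w hwo hw3
      have uq := hz3 Q g3.bo (nz3 g3.fb)
      have uq' := hz3 _ g3.eo (nz3 g3.fe)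
      have h1 := (h.sum_shift 0 r).1
      rw [hz.sum, c0o, uw, uq, uq', h.uo, h.do_] at h1
      have h2' := (h.sum_shift2 0 r r).1
      rw [show (0 : Fin 4).castSucc = 0 from rfl, hz.sum, c0o, uw, uq, uq', h.uo, h.do_] at h2'
      simp only [Int.cast_one, sub_self, mul_zero, zero_div, add_zero, one_mul, mul_one] at h1 h2'
      rw [h1] at h2'
      simp [tUU, h.L_ne] at h2'
    · exfalso
      obtain ⟨z, hz⟩ := h0.rotate2 hwo hw' g2.bo hp g2.ab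
      have hzQ : z = P' := by
        by_contra hne
        exact hp' (hz.off P' g2.eo g2.ae.symm g2.be.symm (Ne.symm hne))
      subst hzQ
      have uw := he2 w hwo hw2
      have uq := he2 P g2.bo (nz2 g2.fb)
      have uq' := he2 _ g2.eo (nz2 g2.fe)
      have h1 := (h.sum_shift 0 s).2
      rw [hz.sum, c0o, uw, uq, uq', h.vo, h.do_] at h1
      have h2' := (h.sum_shift2 0 s s).2.2
      rw [show (0 : Fin 4).castSucc = 0 from rfl, hz.sum, c0o, uw, uq, uq', h.vo, h.do_] at h2'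
      simp only [Int.cast_one, sub_self, mul_zero, zero_div, add_zero, one_mul, mul_one] at h1 h2'
      rw [h1] at h2'
      simp [tVV, h.M_ne] at h2'
    · exact hw'
  -- one of each pair
  have mk : ∀ P₁ P₉ Q₂ Q₇, Supp3 o (c 2) w P₁ P₉ → Supp3 o (c 3) w Q₂ Q₇ → c 3 P₁ = 0 → c 3 P₉ = 0 →
      c 2 Q₂ = 0 → c 2 Q₇ = 0 → c 0 P₁ = c 2 P₁ → c 0 P₉ = 0 → c 0 Q₂ = c 3 Q₂ → c 0 Q₇ = 0 →
      ∃ r s w P₁ P₉ Q₂ Q₇ R, Shape o c d U V r s w P₁ P₉ Q₂ Q₇ R := by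
    intro P₁ P₉ Q₂ Q₇ s2 s3 a1 a9 b2 b7 e1 e9 e2 e7
    have n1 : c 0 P₁ ≠ 0 := e1 ▸ nz2 s2.fb
    have n2 : c 0 Q₂ ≠ 0 := e2 ▸ nz3 s3.fb
    have nPQ : P₁ ≠ Q₂ ∧ P₁ ≠ Q₇ ∧ P₉ ≠ Q₂ ∧ P₉ ≠ Q₇ :=
      ⟨fun e => nz2 s2.fb (e ▸ b2), fun e => nz2 s2.fb (e ▸ b7), fun e => nz2 s2.fe (e ▸ b2),
        fun e => nz2 s2.fe (e ▸ b7)⟩
    obtain ⟨R, hR⟩ := h0.rotate2 s2.bo n1 s3.bo n2 nPQ.1
    have hR0 : c 0 R ≠ 0 := by have := hR.fe; omega
    exact ⟨r, s, w, P₁, P₉, Q₂, Q₇, R,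
      { s2 := s2, s3 := s3, s0 := hR, cw := hw23, cP := e1, cQ := e2
        nR := ⟨fun e => hR0 (e ▸ hw0), hR.ae.symm, fun e => hR0 (e ▸ e9), hR.be.symm,
          fun e => hR0 (e ▸ e7)⟩
        nPQ := nPQ
        zw := ⟨hz3 w hwo hw3, he2 w hwo hw2⟩
        zQ := ⟨hz3 _ s3.bo (nz3 s3.fb), hz3 _ s3.eo (nz3 s3.fe)⟩
        eP := ⟨he2 _ s2.bo (nz2 s2.fb), he2 _ s2.eo (nz2 s2.fe)⟩ }⟩
  simp [gm, hw0] at e20 e30
  rw [hw0] at five
  have pair2 : (c 0 P = c 2 P ∧ c 0 P' = 0) ∨ (c 0 P' = c 2 P' ∧ c 0 P = 0) := by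
    rcases g2.fb with e2 | e2 <;> rcases g2.fe with e3 | e3 <;>
      rcases g3.fb with e4 | e4 <;> rcases g3.fe with e5 | e5 <;>
      simp only [e2, e3, e4, e5, one_mul, neg_mul, neg_neg] at e20 e30 ⊢ <;> omega
  have pair3 : (c 0 Q = c 3 Q ∧ c 0 Q' = 0) ∨ (c 0 Q' = c 3 Q' ∧ c 0 Q = 0) := by
    rcases g2.fb with e2 | e2 <;> rcases g2.fe with e3 | e3 <;>
      rcases g3.fb with e4 | e4 <;> rcases g3.fe with e5 | e5 <;>
      simp only [e2, e3, e4, e5, one_mul, neg_mul, neg_neg] at e20 e30 ⊢ <;> omega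
  rcases pair2 with ⟨p1, p2⟩ | ⟨p1, p2⟩ <;> rcases pair3 with ⟨q1, q2⟩ | ⟨q1, q2⟩
  · exact mk P P' Q Q' g2 g3 cP cP' cQ cQ' p1 p2 q1 q2
  · exact mk P P' Q' Q g2 g3.swap23 cP cP' cQ' cQ p1 p2 q1 q2
  · exact mk P' P Q Q' g2.swap23 g3 cP' cP cQ cQ' p1 p2 q1 q2
  · exact mk P' P Q' Q g2.swap23 g3.swap23 cP' cP cQ' cQ p1 p2 q1 q2

end Cfsg.Agent.ThreeFullWreath
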